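import Cfsg.Agent.AutPSp.Structure

/-!
The automorphism group of PSp_2m as an extension of the inner-diagonal group by field and graph automorphisms.
-/

set_option autoImplicit false

namespace Cfsg.Agent.AutPSp

open Matrix

variable {m : ℕ} {F : Type*} [Field F]

theorem semilinear_tpres (g : Cfsg.GSp m F) (σ : F ≃+* F) : TPres (conjA g * fieldA σ : MulAut (Cfsg.PSp m F)) := by
  intro e c he
  obtain ⟨ν, hν⟩ := mem_GSp_iff.1 g.2
  refine ⟨gmat g.1 *ᵥ fun i => σ (e i), σ c * ((ν⁻¹ : Fˣ) : F), gmat_mulVec_ne_zero _ fun h => he ?_, ?_⟩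
  · funext i
    exact σ.injective ((congrFun h i).trans (map_zero σ).symm)
  · rw [MulAut.mul_apply, fieldA_mkS, conjA_mkS, fieldSp_conjSp_tvS σ hν]

theorem qtS_ne_tvS {e u e' : Vm m F} (h : IsPair e u) (c : F) : qtS e u 0 ≠ tvS e' c := fun heq => by
  have hN : ∀ x, fB m F x e • u + fB m F x u • e = (c * fB m F x e') • e' := fun x => by
    have := congrArg (fun z => mat z *ᵥ x) heq
    simp only [qtS_mulVec h.2.1, tvS_mulVec, zero_mul, add_zero, add_assoc, add_right_inj] at this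
    exact this
  obtain ⟨x, hx, hx'⟩ := h.exists_dual
  have h1 := hN x
  rw [hx, hx', zero_smul, zero_add, one_smul] at h1
  obtain ⟨y, hy⟩ := exists_fB_one h.1
  have h2 := hN (-y)
  rw [show fB m F (-y) e = 1 by rw [map_neg, LinearMap.neg_apply, fB_neg e y, neg_neg, hy], one_smul] at h2
  set a := c * fB m F x e'
  have ha : a ≠ 0 := fun h0 => h.1 (by rw [h1, h0, zero_smul])
  set b := c * fB m F (-y) e'
  refine h.2.2 (b * a⁻¹ - fB m F (-y) u) ?_
  rw [sub_smul, eq_sub_iff_add_eq, h2, h1, smul_smul, mul_assoc, inv_mul_cancel₀ ha, mul_one]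

theorem inndiag_conj_field (σ : F ≃+* F) {x : MulAut (Cfsg.PSp m F)} (hx : x ∈ Cfsg.inndiagPSp m F) :
    fieldA σ * x * (fieldA σ)⁻¹ ∈ Cfsg.inndiagPSp m F := by
  rw [inndiagPSp_eq] at hx
  obtain ⟨g, rfl⟩ := hx
  rw [conjA_field, mul_inv_cancel_right]
  exact conjA_mem _

namespace Graph

variable [CharP F 2]

theorem isPair_base : IsPair (Pi.single (Sum.inl 0) 1 : Vm 2 F) (Pi.single (Sum.inl 1) 1) := by
  refine ⟨Pi.single_ne_zero_iff.2 one_ne_zero, by rw [fB_two]; simp, fun a h => ?_⟩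
  have := congrFun h (Sum.inl 1)
  simp at this

variable [Finite F]

theorem phiHom_qtS_base : phiHom (qtS (Pi.single (Sum.inl 0) 1) (Pi.single (Sum.inl 1) 1) 0) =
    tvS (Pi.single (Sum.inl 0) 1 : Vm 2 F) 1 := by
  have h := phiHom_tvS_base (F := F) 1
  rw [one_smul] at h
  rw [← h, phiHom_phiHom_tvS, one_pow]
  congr 1
  funext i
  by_cases hi : i = Sum.inl 0 <;> simp [Pi.single_apply, hi]

theorem phiA_notMem_semilinear (g : Cfsg.GSp 2 F) (σ : F ≃+* F) : phiA ≠ conjA g * fieldA σ := fun h => by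
  obtain ⟨e', c, -, he⟩ := semilinear_tpres g σ (Pi.single (Sum.inl 0) 1) 1 isPair_base.1
  rw [← h, phiA_mkS, phiHom_tvS_base, one_smul] at he
  exact qtS_ne_tvS isPair_base c (eq_of_mkS_eq 2 (by norm_num)
    (flagFix_pow 2 isPair_base.1 (qtS_mem_flagFix isPair_base.2.1 0)) (tvS_pow_p 2 e' c) he)

theorem phiA_qtS {e u : Vm 2 F} (h : IsPair e u) :
    ∃ e' : Vm 2 F, e' ≠ 0 ∧ phiA (mkS (qtS e u 0)) = mkS (tvS e' 1) := by
  obtain ⟨s, hs, hs'⟩ := exists_pair_map isPair_base h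
  refine ⟨mat (phiHom s) *ᵥ Pi.single (Sum.inl 0) 1, mat_mulVec_ne_zero _ isPair_base.1, ?_⟩
  rw [phiA_mkS, ← hs, ← hs', ← conj_qtS, map_mul phiHom, map_mul phiHom, map_inv phiHom, phiHom_qtS_base, conj_tvS]

/-- The decomposition in the exceptional case. -/
theorem exists_decomp_four (β : MulAut (Cfsg.PSp 2 F)) :
    ∃ (g : Cfsg.GSp 2 F) (σ : F ≃+* F), β = conjA g * fieldA σ ∨ phiA * β = conjA g * fieldA σ := by
  rcases two_cases 2 le_rfl rfl β (e₀ := Pi.single (Sum.inl 0) 1) isPair_base.1 with h | ⟨-, e, u, hp, h⟩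
  · obtain ⟨g, σ, hh⟩ := h.semilinear 2 le_rfl
    exact ⟨g, σ, Or.inl hh⟩
  · obtain ⟨e', he', he⟩ := phiA_qtS hp
    obtain ⟨g, σ, hh⟩ := (TPres.of_one 2 rfl isPair_base.1 he'
      (show (phiA * β : MulAut (Cfsg.PSp 2 F)) (mkS (tvS (Pi.single (Sum.inl 0) 1) 1)) = mkS (tvS e' 1) by
        rw [MulAut.mul_apply, h, he])).semilinear 2 le_rfl
    exact ⟨g, σ, Or.inr hh⟩

end Graph

section Decompose

variable [Finite F] (p : ℕ) [Fact p.Prime] [CharP F p]
include p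

theorem inndiag_normal (hm : 2 ≤ m) : (Cfsg.inndiagPSp m F).Normal := by
  by_cases hex : m = 2 ∧ p = 2
  · rw [inndiag_eq_inn p (by omega) hex.2]; infer_instance
  · refine ⟨fun x hx β => ?_⟩
    obtain ⟨g, σ, rfl⟩ := exists_decomp p hm (fun h1 h2 => hex ⟨h1, h2⟩) β
    rw [show conjA g * fieldA σ * x * (conjA g * fieldA σ)⁻¹ =
      conjA g * (fieldA σ * x * (fieldA σ)⁻¹) * (conjA g)⁻¹ by group]
    exact mul_mem (mul_mem (conjA_mem g) (inndiag_conj_field σ hx)) (inv_mem (conjA_mem g))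

/-- Every automorphism is inner-diagonal times one commuting with all field automorphisms. -/
theorem exists_decomp_all (hm : 2 ≤ m) (hcomm : ∀ σ τ : F ≃+* F, Commute σ τ) (β : MulAut (Cfsg.PSp m F)) :
    ∃ (x J : MulAut (Cfsg.PSp m F)), x ∈ Cfsg.inndiagPSp m F ∧ (∀ σ : F ≃+* F, Commute J (fieldA σ)) ∧ β = x * J := by
  by_cases hex : m = 2 ∧ p = 2
  · obtain ⟨rfl, rfl⟩ := hex
    haveI := inndiag_normal (F := F) 2 hm
    obtain ⟨g, σ, h | h⟩ := Graph.exists_decomp_four β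
    · exact ⟨_, _, conjA_mem g, fun τ => (hcomm σ τ).map fieldA, h⟩
    · refine ⟨Graph.phiA⁻¹ * conjA g * Graph.phiA⁻¹⁻¹, Graph.phiA⁻¹ * fieldA σ,
        Subgroup.Normal.conj_mem inferInstance _ (conjA_mem g) _, fun τ => ?_, ?_⟩
      · exact (Commute.inv_left (Graph.phiA_field τ)).mul_left ((hcomm σ τ).map fieldA)
      · rw [show β = Graph.phiA⁻¹ * (conjA g * fieldA σ) by rw [← h, inv_mul_cancel_left]]
        group
  · obtain ⟨g, σ, rfl⟩ := exists_decomp p hm (fun h1 h2 => hex ⟨h1, h2⟩) β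
    exact ⟨_, _, conjA_mem g, fun τ => (hcomm σ τ).map fieldA, rfl⟩

theorem index_inndiag (hm : 2 ≤ m) (hex : m = 2 → p ≠ 2) :
    (Cfsg.inndiagPSp m F).index = Nat.card (F ≃+* F) := by
  haveI := inndiag_normal (F := F) p hm
  let K : (F ≃+* F) →* MulAut (Cfsg.PSp m F) ⧸ Cfsg.inndiagPSp m F := (QuotientGroup.mk' _).comp fieldA
  have hK : Function.Bijective K := by
    refine ⟨(injective_iff_map_eq_one _).2 fun σ h =>
      (fieldA_mem_inndiag_iff p (by omega)).1 ((QuotientGroup.eq_one_iff _).1 h), fun y => ?_⟩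
    obtain ⟨β, rfl⟩ := QuotientGroup.mk_surjective y
    obtain ⟨g, σ, rfl⟩ := exists_decomp p hm hex β
    refine ⟨σ, ?_⟩
    show (QuotientGroup.mk (fieldA σ) : _ ⧸ Cfsg.inndiagPSp m F) = QuotientGroup.mk (conjA g * fieldA σ)
    rw [QuotientGroup.mk_mul, (QuotientGroup.eq_one_iff _).2 (conjA_mem g), one_mul]
  rw [Subgroup.index_eq_card, ← Nat.card_congr (Equiv.ofBijective K hK)]

theorem card_mulAut (hm : 2 ≤ m) :
    Nat.card (MulAut (Cfsg.PSp m F)) =
      (Cfsg.inndiagPSp m F).index * Nat.gcd 2 (Nat.card F - 1) * Nat.card (Cfsg.PSp m F) := by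
  rw [mul_assoc, ← card_inndiag p (by omega), Subgroup.index_mul_card]

end Decompose

namespace Graph

variable [Fintype F] [CharP F 2] {f : ℕ}

theorem orderOf_frobE (hF : Fintype.card F = 2 ^ f) : orderOf (frobE F) = f := by
  letI : Algebra (ZMod 2) F := ZMod.algebra F 2
  let e : (F ≃ₐ[ZMod 2] F) →* (F ≃+* F) :=
    { toFun := fun a => a.toRingEquiv
      map_one' := RingEquiv.ext fun _ => rfl
      map_mul' := fun a b => RingEquiv.ext fun _ => rfl }
  have he : Function.Injective e := fun a b h => AlgEquiv.ext fun x => RingEquiv.congr_fun h x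
  have h1 : frobE F = e (FiniteField.frobeniusAlgEquivOfAlgebraic (ZMod 2) F) := RingEquiv.ext fun x => by
    show frobenius F 2 x = FiniteField.frobeniusAlgEquivOfAlgebraic (ZMod 2) F x
    rw [FiniteField.coe_frobeniusAlgEquivOfAlgebraic, ZMod.card, frobenius_def]
  have h2 := Module.card_eq_pow_finrank (K := ZMod 2) (V := F)
  rw [hF, ZMod.card] at h2
  rw [h1, orderOf_injective e he, FiniteField.orderOf_frobeniusAlgEquivOfAlgebraic]
  exact (Nat.pow_right_injective le_rfl h2).symm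

theorem mem_zpowers_frobE (hf : 1 ≤ f) (hF : Fintype.card F = 2 ^ f) (σ : F ≃+* F) :
    σ ∈ Subgroup.zpowers (frobE F) := by
  haveI : Fact (Nat.Prime 2) := ⟨Nat.prime_two⟩
  obtain ⟨-, hcard⟩ := AutPSL.card_gal (F := F) hf hF
  haveI : Finite (F ≃+* F) := Finite.of_injective (fun σ : F ≃+* F => (σ : F → F)) DFunLike.coe_injective
  have : Subgroup.zpowers (frobE F) = ⊤ :=
    Subgroup.eq_top_of_card_eq _ (by rw [Nat.card_zpowers, orderOf_frobE hF, hcard])
  rw [this]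
  exact Subgroup.mem_top σ

/-- The quotient by the inner-diagonal group is generated by the graph automorphism. -/
theorem quot_cyclic [(Cfsg.inndiagPSp 2 F).Normal] (hf : 1 ≤ f) (hF : Fintype.card F = 2 ^ f) :
    IsCyclic (MulAut (Cfsg.PSp 2 F) ⧸ Cfsg.inndiagPSp 2 F) ∧
      Nat.card (MulAut (Cfsg.PSp 2 F) ⧸ Cfsg.inndiagPSp 2 F) = 2 * f := by
  haveI : Fact (Nat.Prime 2) := ⟨Nat.prime_two⟩
  set φ := (QuotientGroup.mk (phiA (F := F)) : MulAut (Cfsg.PSp 2 F) ⧸ Cfsg.inndiagPSp 2 F) with hφ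
  have hsq : φ ^ 2 = QuotientGroup.mk (fieldA (frobE F)) := by rw [hφ, pow_two, ← QuotientGroup.mk_mul, phiA_sq]
  have hfield : ∀ σ : F ≃+* F,
      (QuotientGroup.mk (fieldA σ) : MulAut (Cfsg.PSp 2 F) ⧸ Cfsg.inndiagPSp 2 F) ∈ Subgroup.zpowers φ := by
    intro σ
    obtain ⟨k, rfl⟩ := mem_zpowers_frobE hf hF σ
    rw [map_zpow, QuotientGroup.mk_zpow, ← hsq]
    exact Subgroup.zpow_mem _ (Subgroup.npow_mem_zpowers φ 2) k
  have hgen : ∀ y, y ∈ Subgroup.zpowers φ := fun y => by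
    obtain ⟨β, rfl⟩ := QuotientGroup.mk_surjective y
    obtain ⟨g, σ, h | h⟩ := exists_decomp_four β
    · rw [h, QuotientGroup.mk_mul, (QuotientGroup.eq_one_iff _).2 (conjA_mem g), one_mul]
      exact hfield σ
    · have h' := congrArg (QuotientGroup.mk (s := Cfsg.inndiagPSp 2 F)) h
      rw [QuotientGroup.mk_mul, QuotientGroup.mk_mul, (QuotientGroup.eq_one_iff _).2 (conjA_mem g), one_mul, ← hφ] at h'
      rw [eq_inv_mul_of_mul_eq h']
      exact mul_mem (inv_mem (Subgroup.mem_zpowers φ)) (hfield σ)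
  refine ⟨⟨φ, hgen⟩, ?_⟩
  rw [← orderOf_eq_card_of_forall_mem_zpowers hgen]
  have h2f : φ ^ (2 * f) = 1 := by
    rw [pow_mul, hsq, ← QuotientGroup.mk_pow, ← map_pow, ← orderOf_frobE hF, pow_orderOf_eq_one, map_one]
    rfl
  refine Nat.dvd_antisymm (orderOf_dvd_of_pow_eq_one h2f) ?_
  set k := orderOf φ with hk
  have hk1 : φ ^ k = 1 := pow_orderOf_eq_one φ
  rcases Nat.even_or_odd' k with ⟨j, hj | hj⟩
  · rw [hj, pow_mul, hsq, ← QuotientGroup.mk_pow, QuotientGroup.eq_one_iff, ← map_pow,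
      fieldA_mem_inndiag_iff 2 (by norm_num)] at hk1
    rw [hj]
    exact Nat.mul_dvd_mul_left 2 (orderOf_frobE hF ▸ orderOf_dvd_of_pow_eq_one hk1)
  · rw [hj, pow_succ, pow_mul, hsq, ← QuotientGroup.mk_pow, hφ, ← QuotientGroup.mk_mul, QuotientGroup.eq_one_iff,
      inndiagPSp_eq, ← map_pow] at hk1
    obtain ⟨g, hg⟩ := hk1
    refine absurd ?_ (phiA_notMem_semilinear (fieldGSp (frobE F ^ j)⁻¹ g) ((frobE F ^ j)⁻¹))
    rw [← conjA_field, hg, map_inv, inv_mul_cancel_left]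

end Graph

end Cfsg.Agent.AutPSp
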