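import Cfsg.Prelude.Def_LieTypeDatum
import Cfsg.Agent.Classical.SympGroup
import Cfsg.Agent.AutPSL.Classes

/-!
Automorphisms of Sp_2m(F) and PSp_2m(F) induced by conformal symplectic matrices and field automorphisms;
transvections; p-element lifts.
-/

set_option autoImplicit false

namespace Cfsg.Agent.AutPSp

open Matrix

variable {m : ℕ} {F : Type*} [Field F]

/-- The symplectic group. -/
abbrev Spm (m : ℕ) (F : Type*) [Field F] := ↥(Matrix.symplecticGroup (Fin m) F)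

/-- The coordinate space. -/
abbrev Vm (m : ℕ) (F : Type*) := Fin m ⊕ Fin m → F

/-- The alternating form. -/
noncomputable abbrev fB (m : ℕ) (F : Type*) [Field F] : LinearMap.BilinForm F (Vm m F) := Classical.sympB m F

/-- The matrix of an element. -/
abbrev mat (s : Spm m F) : Matrix (Fin m ⊕ Fin m) (Fin m ⊕ Fin m) F := s.1

theorem sp_ext {A B : Spm m F} (h : mat A = mat B) : A = B := Subtype.ext h

theorem sp_ext_mulVec {A B : Spm m F} (h : ∀ v : Vm m F, mat A *ᵥ v = mat B *ᵥ v) : A = B :=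
  sp_ext (Matrix.ext_of_mulVec_single fun _ => h _)

theorem fB_mat (s : Spm m F) (u v : Vm m F) : fB m F (mat s *ᵥ u) (mat s *ᵥ v) = fB m F u v :=
  (Classical.mem_symplectic_iff _).1 s.2 u v

theorem fB_neg (u v : Vm m F) : fB m F v u = -fB m F u v := Classical.Alt.neg' Classical.sympB_isAlt u v

theorem fB_self (u : Vm m F) : fB m F u u = 0 := Classical.sympB_isAlt u

theorem fB_comm_zero {u v : Vm m F} : fB m F u v = 0 ↔ fB m F v u = 0 := by rw [fB_neg u v, neg_eq_zero]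

theorem eq_zero_of_fB {u : Vm m F} (h : ∀ v, fB m F u v = 0) : u = 0 := Classical.sympB_nondeg.1 u h

theorem exists_fB_ne {u : Vm m F} (hu : u ≠ 0) : ∃ v, fB m F u v ≠ 0 := by
  by_contra h
  push Not at h
  exact hu (eq_zero_of_fB h)

theorem exists_fB_one {u : Vm m F} (hu : u ≠ 0) : ∃ v, fB m F u v = 1 := by
  obtain ⟨v, hv⟩ := exists_fB_ne hu
  exact ⟨(fB m F u v)⁻¹ • v, by rw [map_smul, smul_eq_mul, inv_mul_cancel₀ hv]⟩

theorem fB_map (σ : F →+* F) (u v : Vm m F) :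
    fB m F (fun i => σ (u i)) (fun i => σ (v i)) = σ (fB m F u v) := by
  rw [fB, Classical.sympB_eq_sum, Classical.sympB_eq_sum, map_sum]
  simp only [map_sub, map_mul]

/-- The projection. -/
def mkS : Spm m F →* Cfsg.PSp m F := QuotientGroup.mk' _

theorem mkS_apply (s : Spm m F) : mkS s = QuotientGroup.mk s := rfl

theorem mkS_surjective : Function.Surjective (mkS (m := m) (F := F)) := QuotientGroup.mk'_surjective _

theorem mkS_eq_one_iff {s : Spm m F} : mkS s = 1 ↔ s ∈ Subgroup.center (Spm m F) := QuotientGroup.eq_one_iff s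

theorem autExt {α β : MulAut (Cfsg.PSp m F)} (h : ∀ s : Spm m F, α (mkS s) = β (mkS s)) : α = β :=
  MulEquiv.ext fun x => by obtain ⟨s, rfl⟩ := mkS_surjective x; exact h s

theorem map_center (e : MulAut (Spm m F)) :
    (Subgroup.center (Spm m F)).map (e : Spm m F ≃* Spm m F).toMonoidHom = Subgroup.center (Spm m F) := by
  ext x
  simp only [Subgroup.mem_map, MulEquiv.coe_toMonoidHom, Subgroup.mem_center_iff]
  constructor
  · rintro ⟨y, hy, rfl⟩ g
    have := congrArg e (hy (e.symm g))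
    simpa using this
  · intro hx
    refine ⟨e.symm x, fun g => e.injective ?_, e.apply_symm_apply x⟩
    simpa using hx (e g)

/-- An automorphism of Sp induces one of PSp. -/
def toPSpAut : MulAut (Spm m F) →* MulAut (Cfsg.PSp m F) where
  toFun e := QuotientGroup.congr _ _ e (map_center e)
  map_one' := autExt fun _ => rfl
  map_mul' _ _ := autExt fun _ => rfl

/-- Central elements are scalar. -/
theorem center_scalar {z : Spm m F} (hz : z ∈ Subgroup.center (Spm m F)) :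
    ∃ a : F, ∀ v : Vm m F, mat z *ᵥ v = a • v := by
  have h : Classical.spEquiv m F z ∈ Subgroup.center (Classical.Alt.isoGroup (fB m F)) := by
    rw [Subgroup.mem_center_iff]
    intro g
    obtain ⟨g', rfl⟩ := (Classical.spEquiv m F).surjective g
    rw [← map_mul, ← map_mul, Subgroup.mem_center_iff.1 hz g']
  obtain ⟨a, ha⟩ := Classical.Alt.scalar_of_center Classical.sympB_isAlt Classical.sympB_nondeg h
  exact ⟨a, ha⟩

theorem mem_center_of_scalar {z : Spm m F} {a : F} (h : ∀ v : Vm m F, mat z *ᵥ v = a • v) :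
    z ∈ Subgroup.center (Spm m F) := by
  rw [Subgroup.mem_center_iff]
  intro g
  refine sp_ext_mulVec fun v => ?_
  show (mat g * mat z) *ᵥ v = (mat z * mat g) *ᵥ v
  rw [← Matrix.mulVec_mulVec, ← Matrix.mulVec_mulVec, h, h, Matrix.mulVec_smul]

section Lift

variable (p : ℕ) [Fact p.Prime] [CharP F p]
include p

/-- A central element of p-power order is trivial in characteristic p. -/
theorem center_pow_p_eq_one (hm : 1 ≤ m) {z : Spm m F} (hz : z ∈ Subgroup.center (Spm m F)) {k : ℕ}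
    (hk : z ^ p ^ k = 1) : z = 1 := by
  obtain ⟨a, ha⟩ := center_scalar hz
  have hpow : ∀ (j : ℕ) (v : Vm m F), mat (z ^ j) *ᵥ v = a ^ j • v := fun j => by
    induction j with
    | zero => intro v; simp [mat]
    | succ j ih =>
      intro v
      rw [pow_succ z j]
      show (mat (z ^ j) * mat z) *ᵥ v = _
      rw [← Matrix.mulVec_mulVec, ha, ih, smul_smul, pow_succ]
  set e : Vm m F := Pi.single (Sum.inl ⟨0, hm⟩) 1 with he
  have h1 := hpow (p ^ k) e
  rw [hk, show mat (1 : Spm m F) = 1 from rfl, Matrix.one_mulVec] at h1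
  have h2 : a ^ p ^ k = 1 := by
    have := congrFun h1 (Sum.inl ⟨0, hm⟩)
    simpa [he] using this.symm
  have h3 : (a - 1) ^ p ^ k = 0 := by rw [sub_pow_char_pow, h2, one_pow, sub_self]
  have h4 : a = 1 := sub_eq_zero.1 (eq_zero_of_pow_eq_zero h3)
  exact sp_ext_mulVec fun v => by rw [ha, h4, one_smul, show mat (1 : Spm m F) = 1 from rfl, Matrix.one_mulVec]

/-- p-elements are determined by their class. -/
theorem eq_of_mkS_eq (hm : 1 ≤ m) {a b : Spm m F} {k l : ℕ} (ha : a ^ p ^ k = 1) (hb : b ^ p ^ l = 1)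
    (h : mkS a = mkS b) : a = b := by
  have hz : a⁻¹ * b ∈ Subgroup.center (Spm m F) :=
    mkS_eq_one_iff.1 (by rw [map_mul, map_inv, h, inv_mul_cancel])
  have hc : Commute a⁻¹ b := by
    have h1 : a * (a⁻¹ * b) = a⁻¹ * b * a := (Subgroup.mem_center_iff.1 hz) a
    rw [mul_inv_cancel_left] at h1
    show a⁻¹ * b = b * a⁻¹
    calc a⁻¹ * b = a⁻¹ * b * a * a⁻¹ := (mul_inv_cancel_right _ _).symm
      _ = b * a⁻¹ := by rw [← h1]
  have h2 : (a⁻¹ * b) ^ p ^ (k + l) = 1 := by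
    rw [hc.mul_pow, pow_add, pow_mul, inv_pow, ha, inv_one, one_pow, one_mul, mul_comm, pow_mul, hb, one_pow]
  exact eq_of_inv_mul_eq_one (center_pow_p_eq_one p hm hz h2)

/-- Commuting lifts for p-elements. -/
theorem commute_of_mkS (hm : 1 ≤ m) {a b : Spm m F} {k : ℕ} (ha : a ^ p ^ k = 1)
    (h : Commute (mkS a) (mkS b)) : Commute a b := by
  have h1 : b * a * b⁻¹ = a := eq_of_mkS_eq p hm (by rw [conj_pow, ha, mul_one, mul_inv_cancel]) ha
    (by rw [map_mul, map_mul, map_inv, ← h.eq, mul_inv_cancel_right])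
  show a * b = b * a
  calc a * b = b * a * b⁻¹ * b := by rw [h1]
    _ = b * a := inv_mul_cancel_right _ _

end Lift

/-- A symplectic transvection. -/
noncomputable def tvS (v : Vm m F) (c : F) : Spm m F :=
  ⟨Cfsg.sympTransvection m v c, Classical.sympTransvection_mem v c⟩

theorem tvS_mulVec (v : Vm m F) (c : F) (x : Vm m F) :
    mat (tvS v c) *ᵥ x = x + (c * fB m F x v) • v := Classical.sympTransvection_mulVec v x c

theorem mat_mul_mulVec (s t : Spm m F) (x : Vm m F) : mat (s * t) *ᵥ x = mat s *ᵥ (mat t *ᵥ x) :=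
  (Matrix.mulVec_mulVec x _ _).symm

theorem mat_inv_mulVec (s : Spm m F) (x : Vm m F) : mat s⁻¹ *ᵥ (mat s *ᵥ x) = x := by
  rw [← mat_mul_mulVec, inv_mul_cancel]
  exact Matrix.one_mulVec x

theorem mat_mulVec_inv (s : Spm m F) (x : Vm m F) : mat s *ᵥ (mat s⁻¹ *ᵥ x) = x := by
  rw [← mat_mul_mulVec, mul_inv_cancel]
  exact Matrix.one_mulVec x

theorem mat_mulVec_ne_zero (s : Spm m F) {v : Vm m F} (hv : v ≠ 0) : mat s *ᵥ v ≠ 0 := fun h => by
  have := mat_inv_mulVec s v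
  rw [h, Matrix.mulVec_zero] at this
  exact hv this.symm

theorem tvS_mul (v : Vm m F) (c d : F) : tvS v c * tvS v d = tvS v (c + d) := by
  refine sp_ext_mulVec fun x => ?_
  rw [mat_mul_mulVec, tvS_mulVec, tvS_mulVec, tvS_mulVec]
  simp only [map_add, map_smul, LinearMap.add_apply, LinearMap.smul_apply, smul_eq_mul, fB_self, mul_zero, add_zero]
  rw [add_assoc, ← add_smul]
  congr 2
  ring

theorem tvS_zero (v : Vm m F) : tvS v (0 : F) = 1 := by
  refine sp_ext_mulVec fun x => ?_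
  rw [tvS_mulVec, zero_mul, zero_smul, add_zero]
  exact (Matrix.one_mulVec x).symm

theorem tvS_pow (v : Vm m F) (c : F) : ∀ k : ℕ, tvS v c ^ k = tvS v ((k : F) * c)
  | 0 => by rw [pow_zero, Nat.cast_zero, zero_mul, tvS_zero]
  | k + 1 => by rw [pow_succ, tvS_pow v c k, tvS_mul]; congr 1; push_cast; ring

theorem tvS_pow_p (p : ℕ) [CharP F p] (v : Vm m F) (c : F) : tvS v c ^ p ^ 1 = 1 := by
  rw [pow_one, tvS_pow, CharP.cast_eq_zero, zero_mul, tvS_zero]

theorem tvS_smul (v : Vm m F) (a c : F) : tvS (a • v) c = tvS v (a ^ 2 * c) := by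
  refine sp_ext_mulVec fun x => ?_
  rw [tvS_mulVec, tvS_mulVec, map_smul, smul_eq_mul, smul_smul]
  congr 2
  ring

theorem conj_tvS (s : Spm m F) (v : Vm m F) (c : F) : s * tvS v c * s⁻¹ = tvS (mat s *ᵥ v) c := by
  refine sp_ext_mulVec fun x => ?_
  rw [mat_mul_mulVec, mat_mul_mulVec, tvS_mulVec, tvS_mulVec, Matrix.mulVec_add, Matrix.mulVec_smul, mat_mulVec_inv,
    show fB m F (mat s⁻¹ *ᵥ x) v = fB m F x (mat s *ᵥ v) by rw [← fB_mat s, mat_mulVec_inv]]

theorem tvS_eq_one_iff {v : Vm m F} (hv : v ≠ 0) {c : F} : tvS v c = 1 ↔ c = 0 := by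
  refine ⟨fun h => ?_, fun h => by rw [h, tvS_zero]⟩
  obtain ⟨w, hw⟩ := exists_fB_one hv
  have := tvS_mulVec v c w
  rw [h, show mat (1 : Spm m F) *ᵥ w = w from Matrix.one_mulVec w, fB_neg v w, hw, mul_neg, mul_one] at this
  have h0 : (-c) • v = 0 := by simpa using this.symm
  simpa [hv] using h0

theorem tvS_inj {v w : Vm m F} (hv : v ≠ 0) {c d : F} (hc : c ≠ 0) (h : tvS v c = tvS w d) :
    ∃ a : F, w = a • v := by
  obtain ⟨x, hx⟩ := exists_fB_one hv
  have h1 := tvS_mulVec v c x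
  rw [h, tvS_mulVec, fB_neg v x, hx] at h1
  have h2 : (d * fB m F x w) • w = (-c) • v := by simpa using add_left_cancel h1
  have hne : d * fB m F x w ≠ 0 := fun h0 => by
    rw [h0, zero_smul] at h2
    exact smul_ne_zero (neg_ne_zero.2 hc) hv h2.symm
  refine ⟨(d * fB m F x w)⁻¹ * (-c), ?_⟩
  rw [← smul_smul, ← h2, smul_smul, inv_mul_cancel₀ hne, one_smul]

/-- Commuting transvections. -/
theorem tvS_commute_iff {v w : Vm m F} (hv : v ≠ 0) (hw : w ≠ 0) {c d : F} (hc : c ≠ 0) (hd : d ≠ 0) :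
    Commute (tvS v c) (tvS w d) ↔ fB m F v w = 0 := by
  constructor
  · intro h
    by_contra hne
    have h1 : tvS (mat (tvS v c) *ᵥ w) d = tvS w d := by rw [← conj_tvS, h.eq, mul_inv_cancel_right]
    obtain ⟨a, ha⟩ := tvS_inj hw hd h1.symm
    rw [tvS_mulVec] at ha
    have h2 := congrArg (fun y => fB m F y w) ha
    simp only [map_add, map_smul, LinearMap.add_apply, LinearMap.smul_apply, smul_eq_mul, fB_self, zero_add,
      mul_zero] at h2
    rw [fB_neg v w] at h2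
    simp [hc, hne] at h2
  · intro h
    show tvS v c * tvS w d = tvS w d * tvS v c
    refine mul_inv_eq_iff_eq_mul.1 ?_
    rw [conj_tvS]
    congr 1
    rw [tvS_mulVec, fB_comm_zero.1 h, mul_zero, zero_smul, add_zero]

theorem eq_top_of_tvS (H : Subgroup (Spm m F)) (h : ∀ v c, tvS v c ∈ H) : H = ⊤ := by
  rw [eq_top_iff, ← Classical.closure_sympTransvection, Subgroup.closure_le]
  rintro A ⟨w, c, hA⟩
  rw [show A = tvS w c from Subtype.ext hA]
  exact h w c

theorem mem_GSp_iff {g : GL (Fin m ⊕ Fin m) F} : g ∈ Cfsg.GSp m F ↔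
    ∃ c : Fˣ, ∀ u v : Vm m F, fB m F ((g : Matrix (Fin m ⊕ Fin m) (Fin m ⊕ Fin m) F) *ᵥ u) ((g : Matrix (Fin m ⊕ Fin m) (Fin m ⊕ Fin m) F) *ᵥ v) = (c : F) * fB m F u v := by
  constructor
  · rintro ⟨c, hc⟩
    exact ⟨c, fun u v => by rw [fB, Classical.sympB_apply, Classical.sympB_apply]; exact hc u v⟩
  · rintro ⟨c, hc⟩
    refine ⟨c, fun u v => ?_⟩
    rw [← Classical.sympB_apply, ← Classical.sympB_apply]
    exact hc u v

theorem gsp_mulVec_inv (g : GL (Fin m ⊕ Fin m) F) (v : Vm m F) :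
    (g : Matrix (Fin m ⊕ Fin m) (Fin m ⊕ Fin m) F) *ᵥ (((g⁻¹ : GL (Fin m ⊕ Fin m) F) : Matrix (Fin m ⊕ Fin m) (Fin m ⊕ Fin m) F) *ᵥ v) = v := by
  rw [Matrix.mulVec_mulVec, Units.mul_inv, Matrix.one_mulVec]

theorem gsp_inv_mulVec (g : GL (Fin m ⊕ Fin m) F) (v : Vm m F) :
    ((g⁻¹ : GL (Fin m ⊕ Fin m) F) : Matrix (Fin m ⊕ Fin m) (Fin m ⊕ Fin m) F) *ᵥ ((g : Matrix (Fin m ⊕ Fin m) (Fin m ⊕ Fin m) F) *ᵥ v) = v := by
  rw [Matrix.mulVec_mulVec, Units.inv_mul, Matrix.one_mulVec]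

/-- Conjugation of a symplectic matrix by a conformal symplectic one. -/
def conjFun (g : Cfsg.GSp m F) (s : Spm m F) : Spm m F :=
  ⟨(g.1 : Matrix (Fin m ⊕ Fin m) (Fin m ⊕ Fin m) F) * mat s * ((g.1⁻¹ : GL (Fin m ⊕ Fin m) F) : Matrix (Fin m ⊕ Fin m) (Fin m ⊕ Fin m) F), by
    obtain ⟨c, hc⟩ := mem_GSp_iff.1 g.2
    rw [Classical.mem_symplectic_iff]
    intro u v
    have h1 := hc (((g.1⁻¹ : GL (Fin m ⊕ Fin m) F) : Matrix (Fin m ⊕ Fin m) (Fin m ⊕ Fin m) F) *ᵥ u)
      (((g.1⁻¹ : GL (Fin m ⊕ Fin m) F) : Matrix (Fin m ⊕ Fin m) (Fin m ⊕ Fin m) F) *ᵥ v)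
    rw [gsp_mulVec_inv, gsp_mulVec_inv] at h1
    show fB m F _ _ = _
    rw [← Matrix.mulVec_mulVec, ← Matrix.mulVec_mulVec, ← Matrix.mulVec_mulVec, ← Matrix.mulVec_mulVec, hc, fB_mat]
    exact h1.symm⟩

theorem mat_conjFun (g : Cfsg.GSp m F) (s : Spm m F) : mat (conjFun g s) =
    (g.1 : Matrix (Fin m ⊕ Fin m) (Fin m ⊕ Fin m) F) * mat s * ((g.1⁻¹ : GL (Fin m ⊕ Fin m) F) : Matrix (Fin m ⊕ Fin m) (Fin m ⊕ Fin m) F) := rfl

theorem conjFun_mul (g h : Cfsg.GSp m F) (s : Spm m F) : conjFun (g * h) s = conjFun g (conjFun h s) :=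
  sp_ext (by
    simp only [mat_conjFun, Subgroup.coe_mul, _root_.mul_inv_rev, Units.val_mul, Matrix.mul_assoc])

theorem conjFun_one (s : Spm m F) : conjFun 1 s = s := sp_ext (by simp [mat_conjFun])

/-- Conjugation by the conformal symplectic group. -/
def conjSp : Cfsg.GSp m F →* MulAut (Spm m F) where
  toFun g :=
    { toFun := conjFun g
      invFun := conjFun g⁻¹
      left_inv := fun s => by rw [← conjFun_mul, inv_mul_cancel, conjFun_one]
      right_inv := fun s => by rw [← conjFun_mul, mul_inv_cancel, conjFun_one]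
      map_mul' := fun a b => sp_ext (by
        show (g.1 : Matrix (Fin m ⊕ Fin m) (Fin m ⊕ Fin m) F) * (mat a * mat b) * ((g.1⁻¹ : GL (Fin m ⊕ Fin m) F) : Matrix (Fin m ⊕ Fin m) (Fin m ⊕ Fin m) F) =
          ((g.1 : Matrix (Fin m ⊕ Fin m) (Fin m ⊕ Fin m) F) * mat a * ((g.1⁻¹ : GL (Fin m ⊕ Fin m) F) : Matrix (Fin m ⊕ Fin m) (Fin m ⊕ Fin m) F)) *
          ((g.1 : Matrix (Fin m ⊕ Fin m) (Fin m ⊕ Fin m) F) * mat b * ((g.1⁻¹ : GL (Fin m ⊕ Fin m) F) : Matrix (Fin m ⊕ Fin m) (Fin m ⊕ Fin m) F))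
        simp only [Matrix.mul_assoc]
        rw [← Matrix.mul_assoc ((g.1⁻¹ : GL (Fin m ⊕ Fin m) F) : Matrix (Fin m ⊕ Fin m) (Fin m ⊕ Fin m) F) (g.1 : Matrix (Fin m ⊕ Fin m) (Fin m ⊕ Fin m) F),
          Units.inv_mul, Matrix.one_mul]) }
  map_one' := MulEquiv.ext fun s => conjFun_one s
  map_mul' g h := MulEquiv.ext fun s => conjFun_mul g h s

theorem mat_conjSp (g : Cfsg.GSp m F) (s : Spm m F) : mat (conjSp g s) =
    (g.1 : Matrix (Fin m ⊕ Fin m) (Fin m ⊕ Fin m) F) * mat s * ((g.1⁻¹ : GL (Fin m ⊕ Fin m) F) : Matrix (Fin m ⊕ Fin m) (Fin m ⊕ Fin m) F) := rfl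

/-- Entrywise image of a symplectic matrix. -/
def fieldFun (σ : F ≃+* F) (s : Spm m F) : Spm m F :=
  ⟨(mat s).map σ, by
    rw [Classical.mem_symplectic_iff]
    intro u v
    have e : ∀ w : Vm m F, (mat s).map σ *ᵥ w = fun i => σ ((mat s *ᵥ fun j => σ.symm (w j)) i) := fun w => by
      funext i
      rw [show σ ((mat s *ᵥ fun j => σ.symm (w j)) i) = (σ : F →+* F) ((mat s *ᵥ fun j => σ.symm (w j)) i) from rfl,
        RingHom.map_mulVec]
      simp [Function.comp_def]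
    have e2 : ∀ w : Vm m F, w = fun i => σ (σ.symm (w i)) := fun w => funext fun i => (σ.apply_symm_apply _).symm
    rw [e, e]
    conv_rhs => rw [e2 u, e2 v]
    show fB m F _ _ = fB m F _ _
    rw [show (fun i => σ ((mat s *ᵥ fun j => σ.symm (u j)) i)) =
      fun i => (σ : F →+* F) ((mat s *ᵥ fun j => σ.symm (u j)) i) from rfl,
      show (fun i => σ ((mat s *ᵥ fun j => σ.symm (v j)) i)) =
      fun i => (σ : F →+* F) ((mat s *ᵥ fun j => σ.symm (v j)) i) from rfl, fB_map, fB_mat]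
    exact (fB_map (σ : F →+* F) _ _).symm⟩

theorem mat_fieldFun (σ : F ≃+* F) (s : Spm m F) : mat (fieldFun σ s) = (mat s).map σ := rfl

/-- Field automorphisms of Sp. -/
def fieldSp : (F ≃+* F) →* MulAut (Spm m F) where
  toFun σ :=
    { toFun := fieldFun σ
      invFun := fieldFun σ.symm
      left_inv := fun s => sp_ext (Matrix.ext fun i j => σ.symm_apply_apply _)
      right_inv := fun s => sp_ext (Matrix.ext fun i j => σ.apply_symm_apply _)
      map_mul' := fun a b => sp_ext (by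
        show (mat a * mat b).map σ = (mat a).map σ * (mat b).map σ
        rw [Matrix.map_mul]) }
  map_one' := MulEquiv.ext fun _ => sp_ext (Matrix.ext fun _ _ => rfl)
  map_mul' _ _ := MulEquiv.ext fun _ => sp_ext (Matrix.ext fun _ _ => rfl)

theorem mat_fieldSp (σ : F ≃+* F) (s : Spm m F) : mat (fieldSp σ s) = (mat s).map σ := rfl

theorem fieldSp_tvS (σ : F ≃+* F) (v : Vm m F) (c : F) :
    fieldSp σ (tvS v c) = tvS (fun i => σ (v i)) (σ c) := by
  refine sp_ext_mulVec fun x => ?_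
  have e : x = fun i => σ (σ.symm (x i)) := funext fun i => (σ.apply_symm_apply _).symm
  rw [mat_fieldSp, tvS_mulVec]
  have e1 : (mat (tvS v c)).map σ *ᵥ x = fun i => σ ((mat (tvS v c) *ᵥ fun j => σ.symm (x j)) i) := by
    funext i
    rw [show σ ((mat (tvS v c) *ᵥ fun j => σ.symm (x j)) i) =
      (σ : F →+* F) ((mat (tvS v c) *ᵥ fun j => σ.symm (x j)) i) from rfl, RingHom.map_mulVec]
    simp [Function.comp_def]
  rw [e1, tvS_mulVec]
  conv_rhs => rw [e]
  have hb : fB m F (fun i => σ (σ.symm (x i))) (fun i => σ (v i)) = σ (fB m F (fun i => σ.symm (x i)) v) :=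
    fB_map (σ : F →+* F) _ _
  rw [hb]
  funext i
  simp

/-- Conjugation automorphisms of PSp. -/
def conjA : Cfsg.GSp m F →* MulAut (Cfsg.PSp m F) := toPSpAut.comp conjSp

/-- Field automorphisms of PSp. -/
def fieldA : (F ≃+* F) →* MulAut (Cfsg.PSp m F) := toPSpAut.comp fieldSp

theorem conjA_mkS (g : Cfsg.GSp m F) (s : Spm m F) : conjA g (mkS s) = mkS (conjSp g s) := rfl
theorem fieldA_mkS (σ : F ≃+* F) (s : Spm m F) : fieldA σ (mkS s) = mkS (fieldSp σ s) := rfl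

theorem fieldGSp_mem (σ : F ≃+* F) {g : GL (Fin m ⊕ Fin m) F} (hg : g ∈ Cfsg.GSp m F) :
    Matrix.GeneralLinearGroup.map (σ : F →+* F) g ∈ Cfsg.GSp m F := by
  obtain ⟨c, hc⟩ := mem_GSp_iff.1 hg
  refine mem_GSp_iff.2 ⟨Units.map ((σ : F →+* F) : F →* F) c, fun u v => ?_⟩
  have e : ∀ w : Vm m F, ((Matrix.GeneralLinearGroup.map (σ : F →+* F) g : GL (Fin m ⊕ Fin m) F) : Matrix (Fin m ⊕ Fin m) (Fin m ⊕ Fin m) F) *ᵥ w =
      fun i => (σ : F →+* F) (((g : Matrix (Fin m ⊕ Fin m) (Fin m ⊕ Fin m) F) *ᵥ fun j => σ.symm (w j)) i) := fun w => by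
    funext i
    rw [RingHom.map_mulVec]
    simp [Function.comp_def]
  have e2 : ∀ w : Vm m F, w = fun i => (σ : F →+* F) (σ.symm (w i)) := fun w =>
    funext fun i => (σ.apply_symm_apply _).symm
  rw [e, e, fB_map, hc, map_mul, ← fB_map, ← e2 u, ← e2 v]
  rfl

/-- The image of a conformal symplectic matrix under a field automorphism. -/
def fieldGSp (σ : F ≃+* F) : Cfsg.GSp m F →* Cfsg.GSp m F where
  toFun g := ⟨_, fieldGSp_mem σ g.2⟩
  map_one' := Subtype.ext (map_one _)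
  map_mul' a b := Subtype.ext (map_mul _ a.1 b.1)

theorem fieldGSp_coe (σ : F ≃+* F) (g : Cfsg.GSp m F) :
    ((fieldGSp σ g).1 : Matrix (Fin m ⊕ Fin m) (Fin m ⊕ Fin m) F) = (g.1 : Matrix (Fin m ⊕ Fin m) (Fin m ⊕ Fin m) F).map σ := rfl

theorem conjA_field (σ : F ≃+* F) (g : Cfsg.GSp m F) : fieldA σ * conjA g = conjA (fieldGSp σ g) * fieldA σ := by
  refine autExt fun s => ?_
  show mkS (fieldSp σ (conjSp g s)) = mkS (conjSp (fieldGSp σ g) (fieldSp σ s))
  congr 1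
  refine sp_ext ?_
  rw [mat_fieldSp, mat_conjSp, mat_conjSp, mat_fieldSp, Matrix.map_mul, Matrix.map_mul, ← Subgroup.coe_inv,
    ← Subgroup.coe_inv, ← map_inv, fieldGSp_coe, fieldGSp_coe]

theorem isInduced_iff {β : MulAut (Cfsg.PSp m F)} {g : Cfsg.GSp m F} {σ : F ≃+* F} :
    Cfsg.IsInducedBySemilinearPSp g.1 σ β ↔ β = conjA g * fieldA σ := by
  constructor
  · intro h
    refine autExt fun s => h s (conjSp g (fieldSp σ s)) ?_
    show mat (conjSp g (fieldSp σ s)) = _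
    rw [mat_conjSp, mat_fieldSp]
  · rintro rfl s s' h
    show mkS (conjSp g (fieldSp σ s)) = mkS s'
    congr 1
    refine (sp_ext (h.trans ?_)).symm
    rw [mat_conjSp, mat_fieldSp]

theorem isStdField_iff {β : MulAut (Cfsg.PSp m F)} {σ : F ≃+* F} :
    Cfsg.IsStdFieldAutPSp σ β ↔ β = fieldA σ := by
  constructor
  · intro h
    exact autExt fun s => h s (fieldSp σ s) rfl
  · rintro rfl s s' h
    show mkS (fieldSp σ s) = mkS s'
    congr 1
    exact (sp_ext (h.trans (mat_fieldSp σ s).symm)).symm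

theorem isInnerDiagonal_iff {β : MulAut (Cfsg.PSp m F)} :
    Cfsg.IsInnerDiagonalAutPSp β ↔ ∃ g, β = conjA g := by
  have h1 : fieldA (RingEquiv.refl F) = (1 : MulAut (Cfsg.PSp m F)) := map_one fieldA
  constructor
  · rintro ⟨g, hg, h⟩
    refine ⟨⟨g, hg⟩, ?_⟩
    rw [(isInduced_iff (g := ⟨g, hg⟩)).1 h, h1, mul_one]
  · rintro ⟨g, rfl⟩
    exact ⟨g.1, g.2, isInduced_iff.2 (by rw [h1, mul_one])⟩

theorem inndiagPSp_eq : Cfsg.inndiagPSp m F = (conjA (m := m) (F := F)).range := by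
  have : {β : MulAut (Cfsg.PSp m F) | Cfsg.IsInnerDiagonalAutPSp β} =
      ((conjA (m := m) (F := F)).range : Set _) := by
    ext β
    rw [Set.mem_ofPred_eq, isInnerDiagonal_iff]
    exact ⟨fun ⟨g, h⟩ => ⟨g, h.symm⟩, fun ⟨g, h⟩ => ⟨g, h.symm⟩⟩
  rw [Cfsg.inndiagPSp, Cfsg.autSubgroupOf, this, Subgroup.closure_eq]

theorem conjA_mem (g : Cfsg.GSp m F) : conjA g ∈ Cfsg.inndiagPSp m F := by
  rw [inndiagPSp_eq]; exact ⟨g, rfl⟩

/-- Sp inside GSp. -/
def spToGSp : Spm m F →* Cfsg.GSp m F where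
  toFun s := ⟨⟨mat s, mat s⁻¹, congrArg Subtype.val (mul_inv_cancel s), congrArg Subtype.val (inv_mul_cancel s)⟩,
    mem_GSp_iff.2 ⟨1, fun u v => by rw [Units.val_one, one_mul]; exact fB_mat s u v⟩⟩
  map_one' := Subtype.ext (Units.ext rfl)
  map_mul' _ _ := Subtype.ext (Units.ext rfl)

theorem conjA_spToGSp (s : Spm m F) : conjA (spToGSp s) = MulAut.conj (mkS s) := by
  refine autExt fun t => ?_
  rw [conjA_mkS, MulAut.conj_apply, ← map_inv, ← map_mul, ← map_mul]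
  congr 1

end Cfsg.Agent.AutPSp
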