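import Cfsg.Agent.AutPSp.Basic

/-!
The possible images of a symplectic transvection under an automorphism of PSp: central elements of a Sylow
p-subgroup.
-/

set_option autoImplicit false

namespace Cfsg.Agent.AutPSp

open Matrix

variable {m : ℕ} {F : Type*} [Field F]

/-- The element `x ↦ x + B(x,e) w + B(x,w) e` for orthogonal `e`, `w`. -/
noncomputable def qS (e w : Vm m F) : Spm m F := tvS (e + w) 1 * tvS e (-1) * tvS w (-1)

theorem qS_mulVec {e w : Vm m F} (h : fB m F w e = 0) (x : Vm m F) :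
    mat (qS e w) *ᵥ x = x + fB m F x e • w + fB m F x w • e := by
  have h' : fB m F e w = 0 := fB_comm_zero.1 h
  rw [qS, mat_mul_mulVec, mat_mul_mulVec, tvS_mulVec, tvS_mulVec, tvS_mulVec]
  simp only [map_add, map_smul, LinearMap.add_apply, LinearMap.smul_apply, smul_eq_mul, fB_self, h, h', mul_zero,
    add_zero, zero_add, one_mul, neg_mul]
  funext i
  simp
  ring

theorem conj_qS (s : Spm m F) (e w : Vm m F) : s * qS e w * s⁻¹ = qS (mat s *ᵥ e) (mat s *ᵥ w) := by
  rw [qS, qS, ← Matrix.mulVec_add, ← conj_tvS, ← conj_tvS, ← conj_tvS]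
  group

/-- The candidates for the image of a transvection. -/
noncomputable def qtS (e w : Vm m F) (c : F) : Spm m F := qS e w * tvS e c

theorem qtS_mulVec {e w : Vm m F} (h : fB m F w e = 0) (c : F) (x : Vm m F) :
    mat (qtS e w c) *ᵥ x = x + fB m F x e • w + (fB m F x w + c * fB m F x e) • e := by
  rw [qtS, mat_mul_mulVec, tvS_mulVec, qS_mulVec h]
  simp only [map_add, map_smul, LinearMap.add_apply, LinearMap.smul_apply, smul_eq_mul, fB_self, mul_zero, add_zero,
    fB_comm_zero.1 h, add_smul]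
  abel

theorem conj_qtS (s : Spm m F) (e w : Vm m F) (c : F) :
    s * qtS e w c * s⁻¹ = qtS (mat s *ᵥ e) (mat s *ᵥ w) c := by
  rw [qtS, qtS, ← conj_qS, ← conj_tvS]
  group

theorem qtS_smul_self (e : Vm m F) (a c : F) : qtS e (a • e) c = tvS e (2 * a + c) := by
  refine sp_ext_mulVec fun x => ?_
  rw [qtS_mulVec (by rw [map_smul, LinearMap.smul_apply, fB_self, smul_zero]), tvS_mulVec, map_smul, smul_eq_mul,
    smul_smul, add_assoc, ← add_smul]
  congr 2
  ring

/-- The stabiliser of a vector. -/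
def stab (e : Vm m F) : Subgroup (Spm m F) where
  carrier := {s | mat s *ᵥ e = e}
  mul_mem' {a b} ha hb := by
    simp only [Set.mem_ofPred_eq] at ha hb ⊢
    rw [mat_mul_mulVec, hb, ha]
  one_mem' := Matrix.one_mulVec e
  inv_mem' {a} ha := by
    simp only [Set.mem_ofPred_eq] at ha ⊢
    conv_lhs => rw [← ha]
    exact mat_inv_mulVec a e

theorem mem_stab {e : Vm m F} {s : Spm m F} : s ∈ stab e ↔ mat s *ᵥ e = e := Iff.rfl

theorem fB_of_stab {e : Vm m F} {s : Spm m F} (hs : s ∈ stab e) (x : Vm m F) :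
    fB m F (mat s *ᵥ x) e = fB m F x e := by
  conv_lhs => rw [← mem_stab.1 hs]
  exact fB_mat s x e

/-- The elements trivial on the factors of the flag of a vector. -/
def flagFix (e : Vm m F) : Subgroup (Spm m F) where
  carrier := {s | mat s *ᵥ e = e ∧ ∀ x, fB m F x e = 0 → ∃ a : F, mat s *ᵥ x = x + a • e}
  mul_mem' {s t} hs ht := by
    refine ⟨by rw [mat_mul_mulVec, ht.1, hs.1], fun x hx => ?_⟩
    obtain ⟨a, ha⟩ := ht.2 x hx
    obtain ⟨b, hb⟩ := hs.2 x hx
    exact ⟨b + a, by rw [mat_mul_mulVec, ha, Matrix.mulVec_add, Matrix.mulVec_smul, hb, hs.1, add_smul, add_assoc]⟩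
  one_mem' := ⟨Matrix.one_mulVec e, fun x _ => ⟨0, by rw [zero_smul, add_zero]; exact Matrix.one_mulVec x⟩⟩
  inv_mem' {s} hs := by
    have he : mat s⁻¹ *ᵥ e = e := (stab e).inv_mem hs.1
    refine ⟨he, fun x hx => ?_⟩
    obtain ⟨a, ha⟩ := hs.2 x hx
    refine ⟨-a, ?_⟩
    have h := congrArg (mat s⁻¹ *ᵥ ·) ha
    simp only [mat_inv_mulVec, Matrix.mulVec_add, Matrix.mulVec_smul, he] at h
    rw [neg_smul, ← sub_eq_add_neg, eq_sub_iff_add_eq]
    exact h.symm

theorem mem_flagFix {e : Vm m F} {s : Spm m F} :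
    s ∈ flagFix e ↔ mat s *ᵥ e = e ∧ ∀ x, fB m F x e = 0 → ∃ a : F, mat s *ᵥ x = x + a • e := Iff.rfl

theorem qtS_mem_flagFix {e w : Vm m F} (h : fB m F w e = 0) (c : F) : qtS e w c ∈ flagFix e := by
  refine ⟨?_, fun x hx => ⟨fB m F x w, ?_⟩⟩
  · rw [qtS_mulVec h, fB_self, fB_comm_zero.1 h]
    simp
  · rw [qtS_mulVec h, hx]
    simp

theorem qS_eq_qtS (e w : Vm m F) : qS e w = qtS e w 0 := by rw [qtS, tvS_zero, mul_one]

/-- Elements of the flag fixer have order dividing p^2. -/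
theorem flagFix_pow (p : ℕ) [Fact p.Prime] [CharP F p] {e : Vm m F} (he : e ≠ 0) {s : Spm m F}
    (hs : s ∈ flagFix e) : s ^ p ^ 2 = 1 := by
  haveI : Nonempty (Fin m ⊕ Fin m) := by
    by_contra h
    rw [not_nonempty_iff] at h
    exact he (funext fun i => isEmptyElim i)
  set N := mat s - 1 with hN
  have hNx : ∀ x, N *ᵥ x = mat s *ᵥ x - x := fun x => by rw [hN, Matrix.sub_mulVec, Matrix.one_mulVec]
  have h3 : N ^ 3 = 0 := by
    refine Matrix.ext_of_mulVec_single fun i => ?_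
    rw [Matrix.zero_mulVec]
    set x : Vm m F := Pi.single i 1
    rw [show N ^ 3 = N * (N * N) by rw [pow_succ', pow_two], ← Matrix.mulVec_mulVec, ← Matrix.mulVec_mulVec]
    have h1 : fB m F (N *ᵥ x) e = 0 := by
      rw [hNx, map_sub, LinearMap.sub_apply, fB_of_stab hs.1, sub_self]
    obtain ⟨a, ha⟩ := hs.2 _ h1
    rw [hNx (N *ᵥ x), ha, add_sub_cancel_left, Matrix.mulVec_smul, hNx, hs.1, sub_self, smul_zero]
  have hp2 : 3 ≤ p ^ 2 := by
    have := (Fact.out : p.Prime).two_le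
    nlinarith
  refine sp_ext ?_
  show (s ^ p ^ 2 : Spm m F).1 = 1
  rw [SubmonoidClass.coe_pow, show (s.1 : Matrix (Fin m ⊕ Fin m) (Fin m ⊕ Fin m) F) = N + 1 by rw [hN, sub_add_cancel],
    add_pow_char_pow_of_commute p 2 (Commute.one_right N), one_pow, pow_eq_zero_of_le hp2 h3, zero_add]

theorem perp_perp {e d : Vm m F} (he : e ≠ 0) (h : ∀ x, fB m F x e = 0 → fB m F x d = 0) :
    ∃ a : F, d = a • e := by
  obtain ⟨f, hf⟩ := exists_fB_one he
  refine ⟨fB m F f d / fB m F f e, ?_⟩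
  have hfe : fB m F f e ≠ 0 := by rw [fB_neg e f, hf]; simp
  refine sub_eq_zero.1 (eq_zero_of_fB fun x => fB_comm_zero.1 ?_)
  have h1 := h (x - (fB m F x e / fB m F f e) • f) (by
    rw [map_sub, LinearMap.sub_apply, map_smul, LinearMap.smul_apply, smul_eq_mul, div_mul_cancel₀ _ hfe, sub_self])
  rw [map_sub, LinearMap.sub_apply, map_smul, LinearMap.smul_apply, smul_eq_mul, sub_eq_zero] at h1
  rw [map_sub, map_smul, smul_eq_mul, h1]
  ring

/-- An element commuting with the flag fixer of e and with the transvection at e. -/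
theorem central_form (p : ℕ) [Fact p.Prime] [CharP F p] {e : Vm m F} (he : e ≠ 0) {z : Spm m F} {k : ℕ}
    (hk : z ^ p ^ k = 1) (ht : Commute z (tvS e 1)) (hq : ∀ w, fB m F w e = 0 → Commute z (qS e w)) :
    ∃ u c, fB m F u e = 0 ∧ z = qtS e u c ∧ (p ≠ 2 → ∃ a : F, u = a • e) := by
  obtain ⟨a, ha⟩ : ∃ a : F, mat z *ᵥ e = a • e := by
    refine tvS_inj he (one_ne_zero (α := F)) (d := 1) ?_
    rw [← conj_tvS, ht.eq, mul_inv_cancel_right]
  have hpow : ∀ j : ℕ, mat (z ^ j) *ᵥ e = a ^ j • e := fun j => by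
    induction j with
    | zero => rw [pow_zero, pow_zero, one_smul]; exact Matrix.one_mulVec e
    | succ j ih => rw [pow_succ z j, mat_mul_mulVec, ha, Matrix.mulVec_smul, ih, smul_smul, pow_succ', mul_comm]
  have ha1 : a = 1 := by
    have h1 := hpow (p ^ k)
    rw [hk, show mat (1 : Spm m F) *ᵥ e = e from Matrix.one_mulVec e] at h1
    have h2 : a ^ p ^ k = 1 := by
      have h0 : (a ^ p ^ k - 1) • e = 0 := by rw [sub_smul, one_smul, ← h1, sub_self]
      exact sub_eq_zero.1 ((smul_eq_zero.1 h0).resolve_right he)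
    have h3 : (a - 1) ^ p ^ k = 0 := by rw [sub_pow_char_pow, h2, one_pow, sub_self]
    exact sub_eq_zero.1 (eq_zero_of_pow_eq_zero h3)
  rw [ha1, one_smul] at ha
  obtain ⟨f₀, hf₀⟩ := exists_fB_one he
  set f := -f₀ with hf'
  have hfe : fB m F f e = 1 := by rw [hf', map_neg, LinearMap.neg_apply, fB_neg e f₀, neg_neg, hf₀]
  have key : ∀ w, fB m F w e = 0 → ∃ t : F, mat z *ᵥ w = w + t • e ∧ 2 * t = 0 := fun w hw => by
    have hw' : fB m F (mat z *ᵥ w) e = 0 := by rw [fB_of_stab ha]; exact hw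
    have hqq : qS e (mat z *ᵥ w) = qS e w := by
      have := conj_qS z e w
      rw [ha, (hq w hw).eq, mul_inv_cancel_right] at this
      exact this.symm
    have h1 : mat (qS e (mat z *ᵥ w)) *ᵥ f = mat (qS e w) *ᵥ f := by rw [hqq]
    rw [qS_mulVec hw', qS_mulVec hw, hfe, one_smul, one_smul, add_assoc, add_assoc, add_right_inj] at h1
    refine ⟨fB m F f w - fB m F f (mat z *ᵥ w), ?_, ?_⟩
    · rw [sub_smul, ← add_sub_assoc, eq_sub_iff_add_eq]; exact h1
    · have h2 := congrArg (fB m F f) h1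
      simp only [map_add, map_smul, smul_eq_mul, hfe, mul_one] at h2
      linear_combination -h2
  set d := mat z *ᵥ f - f with hd
  have hde : fB m F d e = 0 := by rw [hd, map_sub, LinearMap.sub_apply, fB_of_stab ha, sub_self]
  have hzf : mat z *ᵥ f = f + d := by rw [hd, add_sub_cancel]
  clear_value d
  have hperp : ∀ w, fB m F w e = 0 → mat z *ᵥ w = w + fB m F w d • e ∧ 2 * fB m F w d = 0 := fun w hw => by
    obtain ⟨t, ht, ht2⟩ := key w hw
    have h1 := fB_mat z f w
    rw [hzf, ht] at h1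
    simp only [map_add, map_smul, LinearMap.add_apply, smul_eq_mul, hde, hfe] at h1
    rw [fB_neg w d] at h1
    have : t = fB m F w d := by linear_combination h1
    exact ⟨this ▸ ht, this ▸ ht2⟩
  refine ⟨d, -fB m F f d, hde, sp_ext_mulVec fun x => ?_, fun hp => ?_⟩
  · rw [qtS_mulVec hde]
    set w := x - fB m F x e • f with hw
    have hwe : fB m F w e = 0 := by
      rw [hw, map_sub, LinearMap.sub_apply, map_smul, LinearMap.smul_apply, smul_eq_mul, hfe, mul_one, sub_self]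
    have hx : x = w + fB m F x e • f := by rw [hw, sub_add_cancel]
    conv_lhs => rw [hx]
    rw [Matrix.mulVec_add, Matrix.mulVec_smul, (hperp w hwe).1, hzf, hw, map_sub, LinearMap.sub_apply, map_smul,
      LinearMap.smul_apply, smul_eq_mul]
    funext i
    simp
    ring
  · refine perp_perp he fun w hw => ?_
    refine (mul_eq_zero.1 (hperp w hw).2).resolve_left fun h2 => hp ?_
    have : p ∣ 2 := (CharP.cast_eq_zero_iff F p 2).1 (by exact_mod_cast h2)
    exact (Nat.prime_dvd_prime_iff_eq (Fact.out : p.Prime) Nat.prime_two).1 this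

variable [Finite F] (p : ℕ) [Fact p.Prime] [CharP F p]
include p

theorem not_dvd_index_stab {e : Vm m F} (he : e ≠ 0) : ¬ p ∣ (stab e).index := by
  classical
  haveI := Fintype.ofFinite F
  haveI : Nonempty (Fin m ⊕ Fin m) := by
    by_contra h
    rw [not_nonempty_iff] at h
    exact he (funext fun i => isEmptyElim i)
  let Φ : Spm m F ⧸ stab e → {v : Vm m F // v ≠ 0} :=
    Quotient.lift (fun s => ⟨mat s *ᵥ e, mat_mulVec_ne_zero s he⟩) (fun s t hst => by
      have h : s⁻¹ * t ∈ stab e := QuotientGroup.leftRel_apply.1 hst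
      have h' := mem_stab.1 h
      rw [mat_mul_mulVec] at h'
      refine Subtype.ext ?_
      show mat s *ᵥ e = mat t *ᵥ e
      conv_lhs => rw [← h', mat_mulVec_inv])
  have hΦ : Function.Bijective Φ := by
    constructor
    · intro a b
      induction a using Quotient.inductionOn with | h s => ?_
      induction b using Quotient.inductionOn with | h t => ?_
      intro h
      have h' : mat s *ᵥ e = mat t *ᵥ e := congrArg Subtype.val h
      refine Quotient.sound (QuotientGroup.leftRel_apply.2 ?_)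
      rw [mem_stab, mat_mul_mulVec, ← h', mat_inv_mulVec]
    · rintro ⟨v, hv⟩
      obtain ⟨g, hg⟩ := Classical.Alt.exists_iso_map Classical.sympB_isAlt Classical.sympB_nondeg he hv
      exact ⟨QuotientGroup.mk ((Classical.spEquiv m F).symm g),
        Subtype.ext ((Classical.spEquiv_symm_mulVec g e).trans hg)⟩
  rw [Subgroup.index_eq_card, Nat.card_congr (Equiv.ofBijective Φ hΦ), Nat.card_eq_fintype_card,
    Fintype.card_subtype_compl, Fintype.card_subtype_eq, Fintype.card_fun]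
  intro hdvd
  have h1 : p ∣ Fintype.card F ^ Fintype.card (Fin m ⊕ Fin m) := by
    refine dvd_pow ?_ (Fintype.card_ne_zero (α := Fin m ⊕ Fin m))
    obtain ⟨j, hr, hc⟩ := FiniteField.card F p
    rw [hc]
    exact dvd_pow_self p j.ne_zero
  have hpos : 1 ≤ Fintype.card F ^ Fintype.card (Fin m ⊕ Fin m) := Nat.one_le_pow _ _ Fintype.card_pos
  have h2 := Nat.dvd_sub h1 hdvd
  rw [Nat.sub_sub_self hpos] at h2
  exact (Fact.out : p.Prime).not_dvd_one h2

/-- The image of a transvection under an automorphism. -/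
theorem image_transvection (hm : 1 ≤ m) (β : MulAut (Cfsg.PSp m F)) {e : Vm m F} (he : e ≠ 0) (c : F) :
    ∃ e' u c', e' ≠ 0 ∧ fB m F u e' = 0 ∧ β (mkS (tvS e c)) = mkS (qtS e' u c') ∧
      (p ≠ 2 → ∃ a : F, u = a • e') := by
  let S := stab e
  let P : Sylow p S := Classical.arbitrary _
  have hPp : IsPGroup p ((P : Subgroup S).map S.subtype) := P.isPGroup'.map _
  have hidx : ¬ p ∣ ((P : Subgroup S).map S.subtype).index := by
    rw [Subgroup.index_map_subtype]
    exact (Fact.out : p.Prime).not_dvd_mul P.not_dvd_index (not_dvd_index_stab p he)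
  let P' : Sylow p (Spm m F) := hPp.toSylow hidx
  let Q : Subgroup S := (flagFix e).subgroupOf S
  haveI hQn : Q.Normal := ⟨fun n hn g => by
    rw [Subgroup.mem_subgroupOf] at hn ⊢
    have hg : mat (g : Spm m F) *ᵥ e = e := g.2
    have hgi : mat (g : Spm m F)⁻¹ *ᵥ e = e := S.inv_mem g.2
    refine ⟨?_, fun x hx => ?_⟩
    · show mat ((g : Spm m F) * (n : Spm m F) * (g : Spm m F)⁻¹) *ᵥ e = e
      rw [mat_mul_mulVec, mat_mul_mulVec, hgi, hn.1, hg]
    · obtain ⟨a, ha⟩ := hn.2 (mat (g : Spm m F)⁻¹ *ᵥ x)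
        (by rw [fB_of_stab (S.inv_mem g.2)]; exact hx)
      refine ⟨a, ?_⟩
      show mat ((g : Spm m F) * (n : Spm m F) * (g : Spm m F)⁻¹) *ᵥ x = _
      rw [mat_mul_mulVec, mat_mul_mulVec, ha, Matrix.mulVec_add, Matrix.mulVec_smul, mat_mulVec_inv, hg]⟩
  have hQp : IsPGroup p Q := fun ⟨x, hx⟩ => ⟨2, Subtype.ext (Subtype.ext (flagFix_pow p he hx))⟩
  have hQP : Q ≤ (P : Subgroup S) := by
    have h := P.is_maximal' (hQp.to_sup_of_normal_left P.isPGroup') le_sup_right
    exact h ▸ le_sup_left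
  have hflag : ∀ y ∈ flagFix e, y ∈ (P' : Subgroup (Spm m F)) := fun y hy =>
    ⟨⟨y, hy.1⟩, hQP (show (⟨y, hy.1⟩ : S) ∈ Q from hy), rfl⟩
  have htv : ∀ d, tvS e d ∈ flagFix e := fun d => by
    have := qtS_mem_flagFix (e := e) (w := (0 : F) • e) (by simp) d
    rwa [qtS_smul_self, mul_zero, zero_add] at this
  -- image
  let Qb : Sylow p (Cfsg.PSp m F) := P'.mapSurjective mkS_surjective
  let R : Sylow p (Cfsg.PSp m F) := Qb.mapSurjective (f := (β : Cfsg.PSp m F ≃* Cfsg.PSp m F).toMonoidHom) β.surjective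
  obtain ⟨x, hx⟩ := MulAction.exists_smul_eq (Cfsg.PSp m F) Qb R
  obtain ⟨g, rfl⟩ := mkS_surjective x
  have hR : ((P' : Subgroup (Spm m F)).map mkS).map (β : Cfsg.PSp m F ≃* Cfsg.PSp m F).toMonoidHom =
      ((P' : Subgroup (Spm m F)).map mkS).map (MulAut.conj (mkS g)).toMonoidHom := by
    have := congrArg (fun T : Sylow p (Cfsg.PSp m F) => (T : Subgroup (Cfsg.PSp m F))) hx
    exact this.symm
  have hmem : β (mkS (tvS e c)) ∈ ((P' : Subgroup (Spm m F)).map mkS).map (MulAut.conj (mkS g)).toMonoidHom := by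
    rw [← hR]; exact ⟨_, ⟨_, hflag _ (htv c), rfl⟩, rfl⟩
  obtain ⟨_, ⟨u, hu, rfl⟩, hu'⟩ := hmem
  have hu'' : β (mkS (tvS e c)) = mkS g * mkS u * (mkS g)⁻¹ := hu'.symm
  obtain ⟨k, hk⟩ := P'.isPGroup' ⟨u, hu⟩
  have hku : u ^ p ^ k = 1 := by simpa using congrArg Subtype.val hk
  have hcomm : ∀ w ∈ (P' : Subgroup (Spm m F)), Commute u w := by
    intro w hw
    have h1 : mkS g * mkS w * (mkS g)⁻¹ ∈
        ((P' : Subgroup (Spm m F)).map mkS).map (β : Cfsg.PSp m F ≃* Cfsg.PSp m F).toMonoidHom := by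
      rw [hR]; exact ⟨_, ⟨w, hw, rfl⟩, rfl⟩
    obtain ⟨_, ⟨w', hw', rfl⟩, hw''⟩ := h1
    have hc : Commute (tvS e c) w' := by
      obtain ⟨s, -, rfl⟩ := hw'
      show tvS e c * (s : Spm m F) = (s : Spm m F) * tvS e c
      have := conj_tvS (s : Spm m F) e c
      rw [mem_stab.1 s.2, mul_inv_eq_iff_eq_mul] at this
      exact this.symm
    have h2 : Commute (β (mkS (tvS e c))) (β (mkS w')) := (hc.map mkS).map β
    rw [hu'', show β (mkS w') = mkS g * mkS w * (mkS g)⁻¹ from hw''] at h2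
    exact commute_of_mkS p hm hku ((Commute.conj_iff (h := mkS g)).1 h2)
  obtain ⟨d, c', hd, hz, hp⟩ := central_form p he hku (hcomm _ (hflag _ (htv 1)))
    (fun w hw => hcomm _ (hflag _ (qS_eq_qtS e w ▸ qtS_mem_flagFix hw 0)))
  refine ⟨mat g *ᵥ e, mat g *ᵥ d, c', mat_mulVec_ne_zero g he, by rw [fB_mat]; exact hd, ?_, fun h => ?_⟩
  · rw [hu'', hz, ← map_inv, ← map_mul, ← map_mul, conj_qtS]
  · obtain ⟨a, ha⟩ := hp h
    exact ⟨a, by rw [ha, Matrix.mulVec_smul]⟩

end Cfsg.Agent.AutPSp
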