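import Cfsg.Agent.AutPSp.Points

/-!
When an automorphism of PSp preserves transvections.
-/

set_option autoImplicit false

namespace Cfsg.Agent.AutPSp

open Matrix

variable {m : ℕ} {F : Type*} [Field F]

/-- Independent orthogonal pairs. -/
def IsPair (e u : Vm m F) : Prop := e ≠ 0 ∧ fB m F u e = 0 ∧ ∀ a : F, u ≠ a • e

theorem IsPair.map {e u : Vm m F} (h : IsPair e u) (s : Spm m F) : IsPair (mat s *ᵥ e) (mat s *ᵥ u) := by
  refine ⟨mat_mulVec_ne_zero s h.1, by rw [fB_mat]; exact h.2.1, fun a ha => h.2.2 a ?_⟩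
  have := congrArg (mat s⁻¹ *ᵥ ·) ha
  simp only [Matrix.mulVec_smul, mat_inv_mulVec] at this
  exact this

theorem IsPair.exists_dual {e u : Vm m F} (h : IsPair e u) : ∃ x, fB m F x e = 0 ∧ fB m F x u = 1 := by
  obtain ⟨x, hx1, hx2⟩ : ∃ x, fB m F x e = 0 ∧ fB m F x u ≠ 0 := by
    by_contra hc
    push Not at hc
    obtain ⟨a, ha⟩ := perp_perp h.1 hc
    exact h.2.2 a ha
  exact ⟨(fB m F x u)⁻¹ • x, by rw [map_smul, LinearMap.smul_apply, hx1, smul_zero],
    by rw [map_smul, LinearMap.smul_apply, smul_eq_mul, inv_mul_cancel₀ hx2]⟩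

theorem exists_stab_map {e u₁ u₂ : Vm m F} (h1 : IsPair e u₁) (h2 : IsPair e u₂) :
    ∃ s, mat s *ᵥ e = e ∧ mat s *ᵥ u₁ = u₂ := by
  have step : ∀ {a b : Vm m F}, fB m F a e = 0 → fB m F b e = 0 → fB m F a b ≠ 0 →
      ∃ s, mat s *ᵥ e = e ∧ mat s *ᵥ a = b := by
    intro a b ha hb hab
    refine ⟨tvS (b - a) (fB m F a b)⁻¹, ?_, ?_⟩
    · rw [tvS_mulVec, map_sub, fB_comm_zero.1 hb, fB_comm_zero.1 ha, sub_self, mul_zero, zero_smul, add_zero]
    · rw [tvS_mulVec, map_sub, fB_self, sub_zero, inv_mul_cancel₀ hab, one_smul, add_sub_cancel]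
  by_cases hb : fB m F u₁ u₂ = 0
  · obtain ⟨z, hz, hz1, hz2⟩ : ∃ z, fB m F z e = 0 ∧ fB m F u₁ z ≠ 0 ∧ fB m F z u₂ ≠ 0 := by
      obtain ⟨x, hx, hx'⟩ := h1.exists_dual
      obtain ⟨y, hy, hy'⟩ := h2.exists_dual
      have hx1 : fB m F u₁ x ≠ 0 := by rw [fB_neg x u₁, hx']; exact neg_ne_zero.2 one_ne_zero
      by_cases hxu : fB m F x u₂ = 0
      · by_cases hyu : fB m F u₁ y = 0
        · exact ⟨x + y, by rw [map_add, LinearMap.add_apply, hx, hy, add_zero],
            by rw [map_add, hyu, add_zero]; exact hx1,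
            by rw [map_add, LinearMap.add_apply, hxu, hy', zero_add]; exact one_ne_zero⟩
        · exact ⟨y, hy, hyu, by rw [hy']; exact one_ne_zero⟩
      · exact ⟨x, hx, hx1, hxu⟩
    obtain ⟨s, hs, hs'⟩ := step h1.2.1 hz hz1
    obtain ⟨t, ht, ht'⟩ := step hz h2.2.1 hz2
    exact ⟨t * s, by rw [mat_mul_mulVec, hs, ht], by rw [mat_mul_mulVec, hs', ht']⟩
  · exact step h1.2.1 h2.2.1 hb

/-- Transitivity on independent orthogonal pairs. -/
theorem exists_pair_map {e u e' u' : Vm m F} (h : IsPair e u) (h' : IsPair e' u') :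
    ∃ s, mat s *ᵥ e = e' ∧ mat s *ᵥ u = u' := by
  obtain ⟨g, hg⟩ := Classical.Alt.exists_iso_map Classical.sympB_isAlt Classical.sympB_nondeg h.1 h'.1
  set s := (Classical.spEquiv m F).symm g with hs
  have hse : mat s *ᵥ e = e' := (Classical.spEquiv_symm_mulVec g e).trans hg
  have h1 := h.map s
  rw [hse] at h1
  obtain ⟨t, ht, ht'⟩ := exists_stab_map h1 h'
  exact ⟨t * s, by rw [mat_mul_mulVec, hse, ht], by rw [mat_mul_mulVec, ht']⟩

theorem pair_mem_span {e u e' u' : Vm m F} (h : IsPair e u) (h' : IsPair e' u') {c : F}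
    (heq : qtS e' u' c = qtS e u c) : (∃ a b : F, e' = a • e + b • u) ∧ ∃ a b : F, u' = a • e + b • u := by
  have hN : ∀ x, fB m F x e' • u' + (fB m F x u' + c * fB m F x e') • e' =
      fB m F x e • u + (fB m F x u + c * fB m F x e) • e := fun x => by
    have := congrArg (fun z => mat z *ᵥ x) heq
    simp only [qtS_mulVec h.2.1, qtS_mulVec h'.2.1, add_assoc, add_right_inj] at this
    exact this
  obtain ⟨x, hx, hx'⟩ := h'.exists_dual
  have h1 := hN x
  rw [hx, hx', zero_smul, zero_add, mul_zero, add_zero, one_smul] at h1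
  obtain ⟨y, hy⟩ := exists_fB_one h'.1
  have hy' : fB m F (-y) e' = 1 := by rw [map_neg, LinearMap.neg_apply, fB_neg e' y, neg_neg, hy]
  have h2 := hN (-y)
  rw [hy', one_smul, mul_one] at h2
  refine ⟨⟨_, _, h1.trans (add_comm _ _)⟩, ?_⟩
  set t := fB m F (-y) u' + c
  refine ⟨fB m F (-y) u + c * fB m F (-y) e - t * (fB m F x u + c * fB m F x e),
    fB m F (-y) e - t * fB m F x e, ?_⟩
  rw [eq_sub_of_add_eq h2, h1, sub_smul, sub_smul, smul_add, smul_smul, smul_smul]
  abel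

theorem pair_eq_of_c_ne [CharP F 2] {e u e' u' : Vm m F} (h : IsPair e u) (h' : IsPair e' u') {c : F} (hc : c ≠ 0)
    (heq : qtS e' u' c = qtS e u c) : e' = e ∧ ∃ a : F, u' = u + a • e := by
  have hN : ∀ x, fB m F x e' • u' + (fB m F x u' + c * fB m F x e') • e' =
      fB m F x e • u + (fB m F x u + c * fB m F x e) • e := fun x => by
    have := congrArg (fun z => mat z *ᵥ x) heq
    simp only [qtS_mulVec h.2.1, qtS_mulVec h'.2.1, add_assoc, add_right_inj] at this
    exact this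
  have two : (2 : F) = 0 := by exact_mod_cast CharP.cast_eq_zero F 2
  have he : e' = e := by
    refine sub_eq_zero.1 (eq_zero_of_fB fun x => fB_comm_zero.1 ?_)
    have hq := congrArg (fB m F x) (hN x)
    simp only [map_add, map_smul, smul_eq_mul] at hq
    have hsq : c * (fB m F x e' - fB m F x e) ^ 2 = 0 := by
      linear_combination hq + (fB m F x e * fB m F x u - fB m F x e' * fB m F x u' -
        c * fB m F x e' * fB m F x e + c * fB m F x e * fB m F x e) * two
    rw [map_sub]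
    exact eq_zero_of_pow_eq_zero ((mul_eq_zero.1 hsq).resolve_left hc)
  refine ⟨he, ?_⟩
  obtain ⟨a, ha⟩ : ∃ a : F, u' - u = a • e := perp_perp h.1 fun x hx => by
    have h1 := hN x
    rw [he, hx, zero_smul, zero_smul, zero_add, zero_add, mul_zero, add_zero, add_zero] at h1
    have h2 : (fB m F x u' - fB m F x u) • e = 0 := by rw [sub_smul, h1, sub_self]
    rw [map_sub]
    exact (smul_eq_zero.1 h2).resolve_right h.1
  exact ⟨a, by rw [← ha, add_sub_cancel]⟩

theorem card_perp [Finite F] {e : Vm m F} (he : e ≠ 0) :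
    Nat.card {u : Vm m F // fB m F u e = 0 ∧ ∀ a : F, u ≠ a • e} = Nat.card F ^ (2 * m - 1) - Nat.card F := by
  set L : Vm m F →ₗ[F] F := (fB m F).flip e with hL
  have hsur : Function.Surjective L := fun c => by
    obtain ⟨v, hv⟩ := exists_fB_one he
    refine ⟨(-c) • v, ?_⟩
    rw [map_smul]
    show (-c) • fB m F v e = c
    rw [fB_neg e v, hv]
    simp
  have hker : Module.finrank F (LinearMap.ker L) = 2 * m - 1 := by
    have h1 := LinearMap.finrank_range_add_finrank_ker L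
    rw [LinearMap.range_eq_top.2 hsur, finrank_top, Module.finrank_self, Module.finrank_fintype_fun_eq_card,
      Fintype.card_sum, Fintype.card_fin] at h1
    omega
  have hsub : ((F ∙ e : Submodule F (Vm m F)) : Set (Vm m F)) ⊆ LinearMap.ker L := fun v hv => by
    obtain ⟨a, rfl⟩ := Submodule.mem_span_singleton.1 hv
    rw [SetLike.mem_coe, LinearMap.mem_ker, map_smul]
    show a • fB m F e e = 0
    rw [fB_self, smul_zero]
  have h2 : Set.ncard ((LinearMap.ker L : Set (Vm m F)) \ (F ∙ e : Submodule F (Vm m F))) =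
      Nat.card F ^ (2 * m - 1) - Nat.card F := by
    have hK : Nat.card (LinearMap.ker L) = Nat.card F ^ (2 * m - 1) := by
      rw [Module.natCard_eq_pow_finrank (K := F) (V := LinearMap.ker L), hker]
    have hS : Nat.card (F ∙ e : Submodule F (Vm m F)) = Nat.card F := by
      rw [Module.natCard_eq_pow_finrank (K := F) (V := (F ∙ e : Submodule F (Vm m F))), finrank_span_singleton he,
        pow_one]
    rw [Set.ncard_sdiff hsub, ← Nat.card_coe_set_eq, ← Nat.card_coe_set_eq, SetLike.coe_sort_coe, SetLike.coe_sort_coe,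
      hK, hS]
  rw [← h2, ← Nat.card_coe_set_eq]
  refine Nat.card_congr (Equiv.subtypeEquivRight fun u => ?_)
  simp only [Set.mem_sdiff, SetLike.mem_coe, LinearMap.mem_ker, hL, LinearMap.BilinForm.flip_apply, Submodule.mem_span_singleton,
    not_exists]
  exact and_congr_right fun _ => ⟨fun h a ha => h a ha.symm, fun h a ha => h a ha.symm⟩

section Finite

variable [Finite F] (p : ℕ) [Fact p.Prime] [CharP F p]
include p

theorem eq_of_mkS_qtS (hm : 1 ≤ m) {e u e' u' : Vm m F} (h : IsPair e u) (h' : IsPair e' u') {c c' : F}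
    (heq : mkS (qtS e u c) = mkS (qtS e' u' c')) : qtS e u c = qtS e' u' c' :=
  eq_of_mkS_eq p hm (flagFix_pow p h.1 (qtS_mem_flagFix h.2.1 c)) (flagFix_pow p h'.1 (qtS_mem_flagFix h'.2.1 c')) heq

/-- The pairs are too many when every one gives a distinct transvection preimage up to small fibres. -/
theorem count_bound (hm : 2 ≤ m) (hp : p = 2) {β : MulAut (Cfsg.PSp m F)} {e₀ e u : Vm m F} {c : F} (he₀ : e₀ ≠ 0)
    (h : IsPair e u) (hβ : β (mkS (tvS e₀ 1)) = mkS (qtS e u c)) (K : ℕ)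
    (hK : ∀ {e' u' : Vm m F}, IsPair e' u' →
      Nat.card {x : Vm m F × Vm m F // IsPair x.1 x.2 ∧ qtS x.1 x.2 c = qtS e' u' c} ≤ K) :
    Nat.card F ^ (2 * m - 1) - Nat.card F ≤ K := by
  classical
  haveI := Fintype.ofFinite F
  have hpre : ∀ x : Σ e' : {v : Vm m F // v ≠ 0}, {u' : Vm m F // fB m F u' e'.1 = 0 ∧ ∀ a : F, u' ≠ a • e'.1},
      ∃ v : {v : Vm m F // v ≠ 0}, β (mkS (tvS v.1 1)) = mkS (qtS x.1.1 x.2.1 c) := by
    rintro ⟨⟨e', he'⟩, u', hu', hu''⟩
    obtain ⟨s, hs, hs'⟩ := exists_pair_map h (⟨he', hu', hu''⟩ : IsPair e' u')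
    obtain ⟨t, ht⟩ := mkS_surjective (β.symm (mkS s))
    refine ⟨⟨mat t *ᵥ e₀, mat_mulVec_ne_zero t he₀⟩, ?_⟩
    have hbt : β (mkS t) = mkS s := by rw [ht, MulEquiv.apply_symm_apply]
    rw [← conj_tvS, map_mul, map_mul, map_mul, map_mul, map_inv, map_inv, hβ, hbt, ← map_inv, ← map_mul, ← map_mul,
      conj_qtS, hs, hs']
  choose Φ hΦ using hpre
  have hle := Finset.card_le_mul_card_image (f := Φ) Finset.univ K fun v _ => by
    by_cases hne : (Finset.univ.filter fun x => Φ x = v).Nonempty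
    · obtain ⟨x₀, hx₀⟩ := hne
      rw [Finset.mem_filter] at hx₀
      refine le_trans ?_ (hK (⟨x₀.1.2, x₀.2.2.1, x₀.2.2.2⟩ : IsPair x₀.1.1 x₀.2.1))
      rw [Nat.card_eq_fintype_card, ← Finset.card_univ]
      refine Finset.card_le_card_of_injOn (fun x => if hx : IsPair x.1.1 x.2.1 ∧
          qtS x.1.1 x.2.1 c = qtS x₀.1.1 x₀.2.1 c then ⟨(x.1.1, x.2.1), hx⟩ else
          ⟨(x₀.1.1, x₀.2.1), ⟨x₀.1.2, x₀.2.2.1, x₀.2.2.2⟩, rfl⟩) (fun x _ => Finset.mem_univ _) ?_
      intro x hx y hy hxy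
      simp only [Finset.coe_filter, Set.mem_setOf_eq, Finset.mem_univ, true_and] at hx hy
      have key : ∀ z, Φ z = v → IsPair z.1.1 z.2.1 ∧ qtS z.1.1 z.2.1 c = qtS x₀.1.1 x₀.2.1 c := fun z hz => by
        refine ⟨⟨z.1.2, z.2.2.1, z.2.2.2⟩, eq_of_mkS_qtS p (by omega) ⟨z.1.2, z.2.2.1, z.2.2.2⟩
          ⟨x₀.1.2, x₀.2.2.1, x₀.2.2.2⟩ ?_⟩
        rw [← hΦ, ← hΦ, hz, hx₀.2]
      simp only [dif_pos (key x hx), dif_pos (key y hy), Subtype.mk.injEq, Prod.mk.injEq] at hxy
      obtain ⟨⟨xe, hxe⟩, xu, hxu⟩ := x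
      obtain ⟨⟨ye, hye⟩, yu, hyu⟩ := y
      obtain ⟨rfl, rfl⟩ := hxy
      rfl
    · rw [Finset.not_nonempty_iff_eq_empty.1 hne, Finset.card_empty]
      exact Nat.zero_le _
  have hle' := hle.trans (Nat.mul_le_mul_left K (Finset.card_le_univ _))
  rw [Finset.card_univ, ← Nat.card_eq_fintype_card, ← Nat.card_eq_fintype_card, Nat.card_sigma,
    Finset.sum_congr rfl fun v _ => card_perp v.2, Finset.sum_const, Finset.card_univ, smul_eq_mul,
    ← Nat.card_eq_fintype_card, mul_comm K] at hle'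
  haveI : Nonempty {v : Vm m F // v ≠ 0} := ⟨⟨e₀, he₀⟩⟩
  exact Nat.le_of_mul_le_mul_left hle' Nat.card_pos

/-- In characteristic two a transvection maps to a transvection, except for one class in rank two. -/
theorem two_cases (hm : 2 ≤ m) (hp : p = 2) (β : MulAut (Cfsg.PSp m F)) {e₀ : Vm m F} (he₀ : e₀ ≠ 0) :
    TPres β ∨ (m = 2 ∧ ∃ e u, IsPair e u ∧ β (mkS (tvS e₀ 1)) = mkS (qtS e u 0)) := by
  classical
  subst hp
  haveI := Fintype.ofFinite F
  obtain ⟨e, u, c, he, hu, h, -⟩ := image_transvection 2 (by omega) β he₀ 1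
  by_cases hdep : ∃ a : F, u = a • e
  · obtain ⟨a, rfl⟩ := hdep
    rw [qtS_smul_self] at h
    exact Or.inl (TPres.of_one 2 rfl he₀ he h)
  push Not at hdep
  have hp : IsPair e u := ⟨he, hu, hdep⟩
  have hq : 2 ≤ Nat.card F := Finite.one_lt_card
  by_cases hc : c = 0
  · subst hc
    refine Or.inr ⟨?_, e, u, hp, h⟩
    by_contra hne
    have hb := count_bound 2 hm rfl he₀ hp h (Nat.card (F × F × F × F)) fun {e' u'} hp' => by
      have := fun x : {x : Vm m F × Vm m F // IsPair x.1 x.2 ∧ qtS x.1 x.2 (0 : F) = qtS e' u' 0} =>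
        pair_mem_span hp' x.2.1 x.2.2
      choose h1 h2 using this
      choose a b hab using h1
      choose a' b' hab' using h2
      refine Nat.card_le_card_of_injective (fun x => (a x, b x, a' x, b' x)) fun x y hxy => ?_
      simp only [Prod.mk.injEq] at hxy
      refine Subtype.ext (Prod.ext ?_ ?_)
      · rw [hab x, hab y, hxy.1, hxy.2.1]
      · rw [hab' x, hab' y, hxy.2.2.1, hxy.2.2.2]
    simp only [Nat.card_prod] at hb
    set q := Nat.card F
    have h5 : q ^ 5 ≤ q ^ (2 * m - 1) := Nat.pow_le_pow_right (by omega) (by omega)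
    have h4 : 2 * q ^ 4 ≤ q ^ 5 := by rw [pow_succ' q 4]; exact Nat.mul_le_mul_right _ hq
    have h1 : q < q ^ 4 := by
      calc q = q ^ 1 := (pow_one q).symm
        _ < q ^ 4 := Nat.pow_lt_pow_right (by omega) (by norm_num)
    have : q * (q * (q * q)) = q ^ 4 := by ring
    omega
  · exfalso
    have hb := count_bound 2 hm rfl he₀ hp h (Nat.card F) fun {e' u'} hp' => by
      have := fun x : {x : Vm m F × Vm m F // IsPair x.1 x.2 ∧ qtS x.1 x.2 c = qtS e' u' c} =>
        pair_eq_of_c_ne hp' x.2.1 hc x.2.2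
      choose h1 a ha using this
      refine Nat.card_le_card_of_injective a fun x y hxy => ?_
      exact Subtype.ext (Prod.ext (by rw [h1 x, h1 y]) (by rw [ha x, ha y, hxy]))
    set q := Nat.card F
    have h3 : q ^ 3 ≤ q ^ (2 * m - 1) := Nat.pow_le_pow_right (by omega) (by omega)
    have h4 : 4 * q ≤ q ^ 3 := by rw [pow_succ q 2, pow_two]; exact Nat.mul_le_mul_right _ (Nat.mul_le_mul hq hq)
    omega

theorem tpres_of_odd (hm : 1 ≤ m) (hp : p ≠ 2) (β : MulAut (Cfsg.PSp m F)) : TPres β := by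
  intro e c he
  obtain ⟨e', u, c', he', hu, h, h2⟩ := image_transvection p hm β he c
  obtain ⟨a, rfl⟩ := h2 hp
  exact ⟨e', 2 * a + c', he', by rw [h, qtS_smul_self]⟩

/-- Outside PSp_4 in characteristic two every automorphism is semilinear. -/
theorem exists_decomp (hm : 2 ≤ m) (hex : m = 2 → p ≠ 2) (β : MulAut (Cfsg.PSp m F)) :
    ∃ (g : Cfsg.GSp m F) (σ : F ≃+* F), β = conjA g * fieldA σ := by
  refine TPres.semilinear p hm ?_
  by_cases hp : p = 2
  · obtain ⟨v, hv⟩ : ∃ v : Vm m F, v ≠ 0 :=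
      ⟨Pi.single (Sum.inl ⟨0, by omega⟩) 1, Pi.single_ne_zero_iff.2 one_ne_zero⟩
    exact (two_cases p hm hp β hv).resolve_right fun h => hex h.1 hp
  · exact tpres_of_odd p (by omega) hp β

end Finite

end Cfsg.Agent.AutPSp
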