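import Mathlib

/-!
The fundamental theorem of projective geometry over a finite field: an injective point map that respects lines
is semilinear (dimension at least 3).
-/

set_option autoImplicit false

namespace Cfsg.Agent.AutPSp

open Matrix

variable {ι : Type*} [Fintype ι] [DecidableEq ι] {F : Type*} [Field F]

/-- A representative map of an injective point map preserving lines. -/
structure IsLineMap (P : (ι → F) → (ι → F)) : Prop where
  ne_zero : ∀ v, v ≠ 0 → P v ≠ 0
  congr : ∀ v (a : F), v ≠ 0 → a ≠ 0 → ∃ c : F, P (a • v) = c • P v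
  inj : ∀ v w, v ≠ 0 → w ≠ 0 → (∃ c : F, P w = c • P v) → ∃ a : F, w = a • v
  line : ∀ v w x, v ≠ 0 → w ≠ 0 → x ≠ 0 → (∀ a : F, w ≠ a • v) →
    x ∈ Submodule.span F {v, w} → P x ∈ Submodule.span F {P v, P w}

theorem IsLineMap.comp {P : (ι → F) → (ι → F)} (hP : IsLineMap P) (g : GL ι F) :
    IsLineMap fun v => (g : Matrix ι ι F) *ᵥ P v := by
  have hinj : Function.Injective fun v : ι → F => (g : Matrix ι ι F) *ᵥ v :=
    Matrix.mulVec_injective_iff_isUnit.2 ⟨g, rfl⟩
  refine ⟨fun v hv h => hP.ne_zero v hv (hinj (h.trans (Matrix.mulVec_zero _).symm)), fun v a hv ha => ?_,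
    fun v w hv hw h => ?_, fun v w x hv hw hx hne hmem => ?_⟩
  · obtain ⟨c, hc⟩ := hP.congr v a hv ha
    exact ⟨c, by simp only [hc, Matrix.mulVec_smul]⟩
  · obtain ⟨c, hc⟩ := h
    exact hP.inj v w hv hw ⟨c, hinj (hc.trans (Matrix.mulVec_smul _ _ _).symm)⟩
  · have h := Submodule.mem_map_of_mem (f := Matrix.mulVecLin (g : Matrix ι ι F)) (hP.line v w x hv hw hx hne hmem)
    rwa [Submodule.map_span, Set.image_pair] at h

theorem IsLineMap.mem_supp {P : (ι → F) → (ι → F)} (hP : IsLineMap P) :
    ∀ (s : Finset ι) (x : ι → F), x ≠ 0 → (∀ i, i ∉ s → x i = 0) →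
      P x ∈ Submodule.span F ((fun i => P (Pi.single i 1)) '' (s : Set ι)) := by
  intro s
  induction s using Finset.induction with
  | empty => intro x hx hs; exact absurd (funext fun i => hs i (Finset.notMem_empty i)) hx
  | @insert j s hj ih =>
    intro x hx hs
    set y : ι → F := Function.update x j 0 with hy
    have hys : ∀ i, i ∉ s → y i = 0 := fun i hi => by
      by_cases hij : i = j
      · subst hij; rw [hy, Function.update_self]
      · rw [hy, Function.update_of_ne hij]
        exact hs i (by simp [hij, hi])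
    have hxy : x = y + x j • Pi.single j 1 := by
      funext i
      by_cases hij : i = j
      · subst hij; simp [hy]
      · simp [hy, hij]
    have hmono : Submodule.span F ((fun i => P (Pi.single i 1)) '' (s : Set ι)) ≤
        Submodule.span F ((fun i => P (Pi.single i 1)) '' ((insert j s : Finset ι) : Set ι)) :=
      Submodule.span_mono (Set.image_mono (by simp))
    have hej : P (Pi.single j 1) ∈
        Submodule.span F ((fun i => P (Pi.single i 1)) '' ((insert j s : Finset ι) : Set ι)) :=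
      Submodule.subset_span ⟨j, by simp, rfl⟩
    by_cases hy0 : y = 0
    · rw [hy0, zero_add] at hxy
      have hxj : x j ≠ 0 := fun h => hx (by rw [hxy, h, zero_smul])
      obtain ⟨c, hc⟩ := hP.congr (Pi.single j 1) (x j) (Pi.single_ne_zero_iff.2 one_ne_zero) hxj
      rw [hxy, hc]
      exact Submodule.smul_mem _ _ hej
    by_cases hxj : x j = 0
    · rw [hxj, zero_smul, add_zero] at hxy
      rw [hxy]
      exact hmono (ih y hy0 hys)
    have hnp : ∀ a : F, (Pi.single j 1 : ι → F) ≠ a • y := fun a h => by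
      have := congrFun h j
      simp [hy] at this
    have hmem : x ∈ Submodule.span F {y, Pi.single j 1} :=
      Submodule.mem_span_pair.2 ⟨1, x j, by rw [one_smul]; exact hxy.symm⟩
    refine Submodule.span_le.2 ?_ (hP.line y (Pi.single j 1) x hy0 (Pi.single_ne_zero_iff.2 one_ne_zero) hx hnp hmem)
    rintro _ (rfl | rfl)
    · exact hmono (ih y hy0 hys)
    · exact hej

theorem IsLineMap.surjective [Finite F] {P : (ι → F) → (ι → F)} (hP : IsLineMap P) {y : ι → F} (hy : y ≠ 0) :
    ∃ x : ι → F, x ≠ 0 ∧ ∃ c : F, y = c • P x := by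
  let π : Projectivization F (ι → F) → Projectivization F (ι → F) := fun q =>
    Projectivization.mk F (P q.rep) (hP.ne_zero _ q.rep_nonzero)
  have hinj : Function.Injective π := fun a b hab => by
    rw [Projectivization.mk_eq_mk_iff'] at hab
    obtain ⟨c, hc⟩ := hab
    obtain ⟨d, hd⟩ := hP.inj _ _ b.rep_nonzero a.rep_nonzero ⟨c, hc.symm⟩
    rw [← Projectivization.mk_rep a, ← Projectivization.mk_rep b, Projectivization.mk_eq_mk_iff']
    exact ⟨d, hd.symm⟩
  obtain ⟨q, hq⟩ := (Finite.injective_iff_surjective.1 hinj) (Projectivization.mk F y hy)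
  rw [Projectivization.mk_eq_mk_iff'] at hq
  obtain ⟨c, hc⟩ := hq
  refine ⟨q.rep, q.rep_nonzero, c⁻¹, ?_⟩
  rw [← hc, smul_smul, inv_mul_cancel₀ ?_, one_smul]
  rintro rfl
  rw [zero_smul] at hc
  exact hP.ne_zero _ q.rep_nonzero hc.symm

/-- The fundamental theorem of projective geometry. -/
theorem IsLineMap.exists_semilinear [Finite F] (hcard : 3 ≤ Fintype.card ι) {P : (ι → F) → (ι → F)}
    (hP : IsLineMap P) :
    ∃ (g : GL ι F) (σ : F ≃+* F), ∀ v : ι → F, v ≠ 0 →
      ∃ c : F, P v = c • ((g : Matrix ι ι F) *ᵥ fun i => σ (v i)) := by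
  classical
  -- move the images of the coordinate points to the coordinate points
  set M : Matrix ι ι F := Matrix.of fun r i => P (Pi.single i 1) r with hM
  have hspan : ⊤ ≤ Submodule.span F (Set.range fun i => P (Pi.single i 1)) := fun y _ => by
    by_cases hy : y = 0
    · subst hy; exact zero_mem _
    obtain ⟨x, hx, c, rfl⟩ := hP.surjective hy
    refine Submodule.smul_mem _ _ ?_
    have := hP.mem_supp Finset.univ x hx (fun i hi => absurd (Finset.mem_univ i) hi)
    rwa [Finset.coe_univ, Set.image_univ] at this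
  have hli : LinearIndependent F fun i => P (Pi.single i 1) :=
    linearIndependent_of_top_le_span_of_card_eq_finrank hspan (by simp)
  have hMu : IsUnit M := by
    rw [← Matrix.linearIndependent_cols_iff_isUnit]; exact hli
  set G : GL ι F := hMu.unit
  let Q : (ι → F) → (ι → F) := fun v => ((G⁻¹ : GL ι F) : Matrix ι ι F) *ᵥ P v
  have hQ : IsLineMap Q := hP.comp G⁻¹
  have hQe : ∀ i, Q (Pi.single i 1) = Pi.single i 1 := fun i => by
    have : P (Pi.single i 1) = (G : Matrix ι ι F) *ᵥ Pi.single i 1 := by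
      rw [Matrix.mulVec_single_one]; funext r; rfl
    show ((G⁻¹ : GL ι F) : Matrix ι ι F) *ᵥ P (Pi.single i 1) = _
    rw [this, Matrix.mulVec_mulVec, Units.inv_mul, Matrix.one_mulVec]
  have hsupp : ∀ x : ι → F, x ≠ 0 → ∀ i, x i = 0 → Q x i = 0 := fun x hx i hi => by
    have h := hQ.mem_supp (Finset.univ.filter fun j => x j ≠ 0) x hx (fun j hj => by simpa using hj)
    have hle : Submodule.span F ((fun j => Q (Pi.single j 1)) '' ((Finset.univ.filter fun j => x j ≠ 0 : Finset ι) : Set ι)) ≤
        LinearMap.ker (LinearMap.proj i : (ι → F) →ₗ[F] F) := by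
      rw [Submodule.span_le]
      rintro _ ⟨j, hj, rfl⟩
      simp only [Finset.coe_filter, Finset.mem_univ, true_and] at hj
      show LinearMap.proj i (Q (Pi.single j 1)) = (0 : F)
      rw [hQe, LinearMap.proj_apply, Pi.single_eq_of_ne]
      rintro rfl
      exact hj hi
    exact hle h
  obtain ⟨o⟩ : Nonempty ι := Fintype.card_pos_iff.1 (by omega)
  have hnz : ∀ v : ι → F, v o = 1 → v ≠ 0 := fun v hv h => by rw [h] at hv; exact zero_ne_one hv
  -- the coordinate maps
  let τ : ι → F → F := fun i t => Q (Pi.single o 1 + Pi.single i t) i / Q (Pi.single o 1 + Pi.single i t) o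
  have key : ∀ (k : ℕ) (x : ι → F), x o = 1 → (Finset.univ.filter fun i => i ≠ o ∧ x i ≠ 0).card ≤ k →
      Q x o ≠ 0 ∧ ∀ i, i ≠ o → Q x i = τ i (x i) * Q x o := by
    intro k
    induction k using Nat.strong_induction_on with
    | _ k ih => ?_
    intro x hxo hk
    have hx := hnz x hxo
    have ho : Q x o ≠ 0 := by
      intro h0
      set s := Finset.univ.filter fun i => i ≠ o ∧ x i ≠ 0 with hs
      rcases s.eq_empty_or_nonempty with he | ⟨j, hj⟩
      · have : x = Pi.single o 1 := funext fun i => by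
          by_cases hi : i = o
          · subst hi; rw [hxo, Pi.single_eq_same]
          · rw [Pi.single_eq_of_ne hi]
            by_contra h
            exact (Finset.notMem_empty i) (he ▸ (by simp [hs, hi, h] : i ∈ s))
        rw [this, hQe, Pi.single_eq_same] at h0
        exact one_ne_zero h0
      · simp only [hs, Finset.mem_filter, Finset.mem_univ, true_and] at hj
        set y : ι → F := Function.update x j 0 with hy
        have hyo : y o = 1 := by rw [hy, Function.update_of_ne hj.1.symm, hxo]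
        have hlt : (Finset.univ.filter fun i => i ≠ o ∧ y i ≠ 0).card < k := by
          refine lt_of_lt_of_le (Finset.card_lt_card ⟨fun i hi => ?_, fun h => ?_⟩) hk
          · simp only [hs, Finset.mem_filter, Finset.mem_univ, true_and] at hi ⊢
            refine ⟨hi.1, fun h => hi.2 ?_⟩
            by_cases hij : i = j
            · subst hij; rw [hy, Function.update_self]
            · rw [hy, Function.update_of_ne hij, h]
          · have := h (show j ∈ _ by simp [hs, hj])
            simp [hy] at this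
        obtain ⟨hyo', -⟩ := ih _ hlt y hyo le_rfl
        have hmem : x ∈ Submodule.span F {y, Pi.single j 1} := Submodule.mem_span_pair.2 ⟨1, x j, by
          funext i
          by_cases hij : i = j
          · subst hij; simp [hy]
          · simp [hy, hij]⟩
        obtain ⟨a, b, hab⟩ := Submodule.mem_span_pair.1 (hQ.line y (Pi.single j 1) x (hnz y hyo)
          (Pi.single_ne_zero_iff.2 one_ne_zero) hx (fun a h => by have := congrFun h j; simp [hy] at this) hmem)
        have ha : a = 0 := by
          have := congrFun hab o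
          rw [hQe, h0] at this
          simp [hj.1.symm] at this
          exact this.resolve_right hyo'
        rw [ha, zero_smul, zero_add, hQe] at hab
        obtain ⟨c, hc⟩ := hQ.inj (Pi.single j 1) x (Pi.single_ne_zero_iff.2 one_ne_zero) hx
          ⟨b, by rw [hQe]; exact hab.symm⟩
        have := congrFun hc o
        simp [hxo, hj.1.symm] at this
    refine ⟨ho, fun i hi => ?_⟩
    by_cases hxi : x i = 0
    · rw [hsupp x hx i hxi, hxi]
      have : τ i 0 = 0 := by simp [τ, hQe, hi]
      rw [this, zero_mul]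
    by_cases hs : ∀ j, j ≠ o → j ≠ i → x j = 0
    · have hxe : x = Pi.single o 1 + Pi.single i (x i) := funext fun j => by
        by_cases hjo : j = o
        · subst hjo; simp [hxo, hi.symm]
        by_cases hji : j = i
        · subst hji; simp [hjo]
        · simp [hs j hjo hji, hjo, hji]
      show Q x i = Q (Pi.single o 1 + Pi.single i (x i)) i / Q (Pi.single o 1 + Pi.single i (x i)) o * Q x o
      rw [← hxe, div_mul_cancel₀ _ ho]
    · push Not at hs
      obtain ⟨j, hjo, hji, hxj⟩ := hs
      set y : ι → F := Function.update x j 0 with hy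
      have hyo : y o = 1 := by rw [hy, Function.update_of_ne hjo.symm, hxo]
      have hlt : (Finset.univ.filter fun i => i ≠ o ∧ y i ≠ 0).card < k := by
        refine lt_of_lt_of_le (Finset.card_lt_card ⟨fun l hl => ?_, fun h => ?_⟩) hk
        · simp only [Finset.mem_filter, Finset.mem_univ, true_and] at hl ⊢
          refine ⟨hl.1, fun h => hl.2 ?_⟩
          by_cases hlj : l = j
          · subst hlj; rw [hy, Function.update_self]
          · rw [hy, Function.update_of_ne hlj, h]
        · have := h (show j ∈ _ by simp [hjo, hxj])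
          simp [hy] at this
      obtain ⟨-, hyi⟩ := ih _ hlt y hyo le_rfl
      have hmem : x ∈ Submodule.span F {y, Pi.single j 1} := Submodule.mem_span_pair.2 ⟨1, x j, by
        funext l
        by_cases hlj : l = j
        · subst hlj; simp [hy]
        · simp [hy, hlj]⟩
      obtain ⟨a, b, hab⟩ := Submodule.mem_span_pair.1 (hQ.line y (Pi.single j 1) x (hnz y hyo)
        (Pi.single_ne_zero_iff.2 one_ne_zero) hx (fun a h => by have := congrFun h j; simp [hy] at this) hmem)
      have h1 := congrFun hab o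
      have h2 := congrFun hab i
      rw [hQe] at h1 h2
      simp [hjo.symm] at h1
      simp [Ne.symm hji] at h2
      rw [← h2, ← h1, hyi i hi, show y i = x i by rw [hy, Function.update_of_ne (Ne.symm hji)]]
      ring
  have keyo : ∀ x : ι → F, x o = 1 → Q x o ≠ 0 ∧ ∀ i, i ≠ o → Q x i = τ i (x i) * Q x o :=
    fun x hx => key _ x hx le_rfl
  -- vectors with zero coordinate at `o`
  have key0 : ∀ x : ι → F, x ≠ 0 → x o = 0 → ∃ b : F, b ≠ 0 ∧ ∀ i, i ≠ o → Q x i = b * τ i (x i) := by
    intro x hx hxo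
    set y : ι → F := Pi.single o 1 + x with hy
    have hyo : y o = 1 := by simp [hy, hxo]
    obtain ⟨hy', hyi⟩ := keyo y hyo
    have hne : ∀ a : F, y ≠ a • (Pi.single o 1 : ι → F) := fun a h => hx (funext fun i => by
      by_cases hi : i = o
      · subst hi; exact hxo
      · have := congrFun h i; simpa [hy, hi] using this)
    have hmem : x ∈ Submodule.span F {(Pi.single o 1 : ι → F), y} :=
      Submodule.mem_span_pair.2 ⟨-1, 1, by simp [hy]⟩
    obtain ⟨a, b, hab⟩ := Submodule.mem_span_pair.1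
      (hQ.line (Pi.single o 1) y x (Pi.single_ne_zero_iff.2 one_ne_zero) (hnz y hyo) hx hne hmem)
    refine ⟨b * Q y o, mul_ne_zero ?_ hy', fun i hi => ?_⟩
    · rintro rfl
      rw [zero_smul, add_zero, hQe] at hab
      obtain ⟨c, hc⟩ := hQ.inj (Pi.single o 1) x (Pi.single_ne_zero_iff.2 one_ne_zero) hx
        ⟨a, by rw [hQe]; exact hab.symm⟩
      have := congrFun hc o
      simp [hxo] at this
      exact hx (by rw [hc, ← this, zero_smul])
    · have := congrFun hab i
      rw [hQe] at this
      simp [hi] at this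
      rw [← this, hyi i hi, show y i = x i by simp [hy, hi]]
      ring
  have hτ0 : ∀ i, i ≠ o → τ i 0 = 0 := fun i hi => by simp [τ, hQe, hi]
  have hτ1 : ∀ i, i ≠ o → τ i 1 ≠ 0 := fun i hi h0 => by
    obtain ⟨b, hb, h⟩ := key0 (Pi.single i 1) (Pi.single_ne_zero_iff.2 one_ne_zero) (by simp [hi.symm])
    have := h i hi
    rw [hQe, Pi.single_eq_same, h0, mul_zero] at this
    exact one_ne_zero this
  let σ : ι → F → F := fun i t => τ i t / τ i 1
  have hmul : ∀ i j, i ≠ o → j ≠ o → i ≠ j → ∀ s t, σ j (s * t) = σ i s * σ j t := by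
    intro i j hi hj hij s t
    by_cases hs : s = 0
    · subst hs; simp [σ, hτ0 i hi, hτ0 j hj]
    set x : ι → F := Pi.single i 1 + Pi.single j t with hx
    have hxo : x o = 0 := by simp [hx, hi.symm, hj.symm]
    have hx0 : x ≠ 0 := fun h => by have := congrFun h i; simp [hx, hij] at this
    obtain ⟨b, hb, hbx⟩ := key0 x hx0 hxo
    obtain ⟨b', hb', hbx'⟩ := key0 (s • x) (smul_ne_zero hs hx0) (by simp [hxo])
    obtain ⟨c, hc⟩ := hQ.congr x s hx0 hs
    have h1 := hbx' i hi
    have h2 := hbx' j hj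
    rw [hc, Pi.smul_apply, smul_eq_mul, hbx i hi, show (s • x) i = s by simp [hx, hij],
      show x i = 1 by simp [hx, hij]] at h1
    rw [hc, Pi.smul_apply, smul_eq_mul, hbx j hj, show (s • x) j = s * t by simp [hx, hij.symm],
      show x j = t by simp [hx, hij.symm]] at h2
    have e1 := hτ1 i hi
    have e2 := hτ1 j hj
    simp only [σ]
    rw [div_mul_div_comm, div_eq_div_iff e2 (mul_ne_zero e1 e2)]
    refine mul_left_cancel₀ hb' ?_
    linear_combination -(τ i 1 * τ j 1) * h2 + (τ j t * τ j 1) * h1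
  have hσ1 : ∀ i, i ≠ o → σ i 1 = 1 := fun i hi => div_self (hτ1 i hi)
  have heq : ∀ i j, i ≠ o → j ≠ o → i ≠ j → ∀ s, σ j s = σ i s := fun i j hi hj hij s => by
    have := hmul i j hi hj hij s 1
    rwa [mul_one, hσ1 j hj, mul_one] at this
  obtain ⟨i₁, hi₁, i₂, hi₂, hne⟩ : ∃ i₁, i₁ ≠ o ∧ ∃ i₂, i₂ ≠ o ∧ i₁ ≠ i₂ := by
    obtain ⟨a, b, c, hab, hac, hbc⟩ := Fintype.two_lt_card_iff.1 (show 2 < Fintype.card ι by omega)
    by_cases hao : a = o
    · exact ⟨b, hao ▸ hab.symm, c, hao ▸ hac.symm, hbc⟩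
    · by_cases hbo : b = o
      · exact ⟨a, hao, c, hbo ▸ hbc.symm, hac⟩
      · exact ⟨a, hao, b, hbo, hab⟩
  have hall : ∀ i, i ≠ o → ∀ s, σ i s = σ i₁ s := fun i hi s => by
    by_cases h : i = i₁
    · rw [h]
    · exact heq i₁ i hi₁ hi (Ne.symm h) s
  have hσmul : ∀ s t, σ i₁ (s * t) = σ i₁ s * σ i₁ t := fun s t => by
    have := hmul i₂ i₁ hi₂ hi₁ hne.symm s t
    rwa [hall i₂ hi₂] at this
  have hσadd : ∀ s t, σ i₁ (s + t) = σ i₁ s + σ i₁ t := fun s t => by
    set x₁ : ι → F := Pi.single o 1 + Pi.single i₁ s with hx₁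
    set x₂ : ι → F := Pi.single i₁ t + Pi.single i₂ 1 with hx₂
    have h1o : x₁ o = 1 := by simp [hx₁, hi₁.symm]
    have h2o : x₂ o = 0 := by simp [hx₂, hi₁.symm, hi₂.symm]
    have h3o : (x₁ + x₂) o = 1 := by simp [h1o, h2o]
    have h20 : x₂ ≠ 0 := fun h => by have := congrFun h i₂; simp [hx₂, hne.symm] at this
    have hnp : ∀ a : F, x₂ ≠ a • x₁ := fun a h => by
      have h' := congrFun h o
      rw [Pi.smul_apply, h1o, h2o, smul_eq_mul, mul_one] at h'
      exact h20 (by rw [h, ← h', zero_smul])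
    obtain ⟨a, b, hab⟩ := Submodule.mem_span_pair.1 (hQ.line x₁ x₂ (x₁ + x₂) (hnz _ h1o) h20 (hnz _ h3o) hnp
      (Submodule.mem_span_pair.2 ⟨1, 1, by simp⟩))
    obtain ⟨hq1, hq1'⟩ := keyo x₁ h1o
    obtain ⟨hq3, hq3'⟩ := keyo (x₁ + x₂) h3o
    obtain ⟨b', hb', hq2⟩ := key0 x₂ h20 h2o
    have e0 := congrFun hab o
    have e1 := congrFun hab i₁
    have e2 := congrFun hab i₂
    simp only [Pi.add_apply, Pi.smul_apply, smul_eq_mul] at e0 e1 e2
    rw [hsupp x₂ h20 o h2o, mul_zero, add_zero] at e0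
    rw [hq1' i₁ hi₁, hq2 i₁ hi₁, hq3' i₁ hi₁, show x₁ i₁ = s by simp [hx₁, hi₁], show x₂ i₁ = t by simp [hx₂, hne],
      show (x₁ + x₂) i₁ = s + t by simp [hx₁, hx₂, hi₁, hne]] at e1
    rw [hq1' i₂ hi₂, hq2 i₂ hi₂, hq3' i₂ hi₂, show x₁ i₂ = 0 by simp [hx₁, hi₂, hne.symm],
      show x₂ i₂ = 1 by simp [hx₂, hne.symm], show (x₁ + x₂) i₂ = 1 by simp [hx₁, hx₂, hi₂, hne.symm],
      hτ0 i₂ hi₂, zero_mul, mul_zero, zero_add] at e2
    have hbb : b * b' = Q (x₁ + x₂) o := mul_right_cancel₀ (hτ1 i₂ hi₂) (by linear_combination e2)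
    simp only [σ]
    rw [← add_div]
    congr 1
    refine mul_right_cancel₀ hq3 ?_
    linear_combination -e1 + τ i₁ s * e0 + τ i₁ t * hbb
  let φ : F →+* F :=
    { toFun := σ i₁, map_one' := hσ1 i₁ hi₁, map_mul' := hσmul,
      map_zero' := by simp [σ, hτ0 i₁ hi₁], map_add' := hσadd }
  let S : F ≃+* F := RingEquiv.ofBijective φ (Finite.injective_iff_bijective.1 φ.injective)
  let d : ι → F := fun i => if i = o then 1 else τ i 1
  have hd : ∀ i, d i ≠ 0 := fun i => by
    by_cases hi : i = o
    · simp [d, hi]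
    · simpa [d, hi] using hτ1 i hi
  let D : GL ι F := Matrix.GeneralLinearGroup.mkOfDetNeZero (Matrix.diagonal d)
    (by rw [Matrix.det_diagonal]; exact Finset.prod_ne_zero_iff.2 fun i _ => hd i)
  have hS : ∀ i, i ≠ o → ∀ s, τ i s = τ i 1 * S s := fun i hi s => by
    have e : S s = σ i₁ s := rfl
    rw [e, ← hall i hi s]
    simp only [σ]
    rw [mul_div_cancel₀ _ (hτ1 i hi)]
  refine ⟨G * D, S, fun v hv => ?_⟩
  have hQv : ∃ c : F, Q v = c • ((D : Matrix ι ι F) *ᵥ fun i => S (v i)) := by
    by_cases hvo : v o = 0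
    · obtain ⟨b, -, hb⟩ := key0 v hv hvo
      refine ⟨b, funext fun i => ?_⟩
      show Q v i = b * (Matrix.diagonal d *ᵥ fun j => S (v j)) i
      rw [Matrix.mulVec_diagonal]
      by_cases hi : i = o
      · subst hi; rw [hsupp v hv _ hvo, hvo, map_zero, mul_zero, mul_zero]
      · rw [hb i hi, hS i hi]
        simp [d, hi]
    · set w : ι → F := (v o)⁻¹ • v with hw
      have hwo : w o = 1 := by simp [hw, hvo]
      obtain ⟨hwo', hwi⟩ := keyo w hwo
      obtain ⟨c, hc⟩ := hQ.congr w (v o) (hnz w hwo) hvo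
      rw [hw, smul_smul, mul_inv_cancel₀ hvo, one_smul, ← hw] at hc
      refine ⟨c * Q w o * (S (v o))⁻¹, funext fun i => ?_⟩
      show Q v i = c * Q w o * (S (v o))⁻¹ * (Matrix.diagonal d *ᵥ fun j => S (v j)) i
      rw [Matrix.mulVec_diagonal, hc, Pi.smul_apply, smul_eq_mul]
      have hSo : S (v o) ≠ 0 := by simpa using hvo
      by_cases hi : i = o
      · subst hi
        simp [d, hSo]
      · rw [hwi i hi, hS i hi, show S (w i) = (S (v o))⁻¹ * S (v i) by
          rw [hw, Pi.smul_apply, smul_eq_mul, map_mul, map_inv₀]]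
        simp [d, hi]
        ring
  obtain ⟨c, hc⟩ := hQv
  refine ⟨c, ?_⟩
  rw [Units.val_mul, ← Matrix.mulVec_mulVec, ← Matrix.mulVec_smul, ← hc]
  show P v = (G : Matrix ι ι F) *ᵥ (((G⁻¹ : GL ι F) : Matrix ι ι F) *ᵥ P v)
  rw [Matrix.mulVec_mulVec, Units.mul_inv, Matrix.one_mulVec]

end Cfsg.Agent.AutPSp
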