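import Cfsg.Agent.AutPSp.Aut

/-!
Field automorphisms of prime order of PSp_2m: twisted conjugacy in the inner-diagonal coset, centralizers.
-/

set_option autoImplicit false

namespace Cfsg.Agent.AutPSp

open Matrix

variable {m : ℕ} {F : Type*} [Field F]

/-- Reindexing to an ordinary general linear group. -/
def reGL : GL (Fin m ⊕ Fin m) F ≃* GL (Fin (m + m)) F :=
  Units.mapEquiv (Matrix.reindexAlgEquiv F F finSumFinEquiv).toMulEquiv

theorem reGL_apply (g : GL (Fin m ⊕ Fin m) F) (i j : Fin (m + m)) :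
    (reGL g : Matrix (Fin (m + m)) (Fin (m + m)) F) i j = gmat g (finSumFinEquiv.symm i) (finSumFinEquiv.symm j) := rfl

theorem reGL_field (σ : F ≃+* F) (g : GL (Fin m ⊕ Fin m) F) :
    reGL (Matrix.GeneralLinearGroup.map (σ : F →+* F) g) = AutPSL.fieldGL σ (reGL g) :=
  Units.ext (Matrix.ext fun _ _ => rfl)

theorem reGL_scalar (a : Fˣ) :
    reGL (scalarGSp (m := m) a).1 = Matrix.GeneralLinearGroup.scalar (Fin (m + m)) a := by
  refine Units.ext (Matrix.ext fun i j => ?_)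
  rw [reGL_apply, gmat_scalarGSp]
  show _ = Matrix.scalar (Fin (m + m)) (a : F) i j
  rw [Matrix.scalar_apply, Matrix.diagonal_apply, Matrix.smul_apply, Matrix.one_apply]
  simp

/-- The twisted partial products. -/
def twS (σ : F ≃+* F) (g : Cfsg.GSp m F) : ℕ → Cfsg.GSp m F
  | 0 => 1
  | k + 1 => g * fieldGSp σ (twS σ g k)

theorem conjA_field_pow (σ : F ≃+* F) (g : Cfsg.GSp m F) :
    ∀ k, (conjA g * fieldA σ) ^ k = conjA (twS σ g k) * fieldA (σ ^ k)
  | 0 => by simp [twS]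
  | k + 1 => by
    rw [pow_succ', conjA_field_pow σ g k]
    show _ = conjA (g * fieldGSp σ (twS σ g k)) * fieldA (σ ^ (k + 1))
    rw [map_mul, pow_succ', map_mul, mul_assoc (conjA g), ← mul_assoc (fieldA σ), conjA_field]
    group

theorem reGL_twS (σ : F ≃+* F) (g : Cfsg.GSp m F) :
    ∀ k, reGL (twS σ g k).1 = AutPSL.twN σ (reGL g.1) k
  | 0 => map_one reGL
  | k + 1 => by
    show reGL (g.1 * (fieldGSp σ (twS σ g k)).1) = reGL g.1 * AutPSL.fieldGL σ (AutPSL.twN σ (reGL g.1) k)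
    rw [map_mul, ← reGL_twS σ g k, ← reGL_field]
    rfl

/-- A symplectic basis of a non-degenerate alternating matrix over a field. -/
theorem exists_symp_congr {K : Type*} [Field K] (M : Matrix (Fin m ⊕ Fin m) (Fin m ⊕ Fin m) K) (hdet : M.det ≠ 0)
    (halt : ∀ u, Matrix.toBilin' M u u = 0) :
    ∃ k : Matrix (Fin m ⊕ Fin m) (Fin m ⊕ Fin m) K, kᵀ * M * k = Matrix.J (Fin m) K := by
  have hA : LinearMap.BilinForm.IsAlt (Matrix.toBilin' M) := halt
  have hB : LinearMap.BilinForm.Nondegenerate (Matrix.toBilin' M) :=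
    LinearMap.BilinForm.nondegenerate_toBilin'_of_det_ne_zero' _ hdet
  obtain ⟨m', e, f, hb, hd⟩ := Classical.Alt.exists_sympBasis hA ⊤ (Classical.Alt.ndon_top hB)
  rw [finrank_top, Classical.finrank_symp] at hd
  obtain rfl : m = m' := by omega
  refine ⟨Matrix.of fun i j => Sum.elim f e j i, Matrix.ext fun a b => ?_⟩
  have h1 : ((Matrix.of fun i j => Sum.elim f e j i)ᵀ * M * Matrix.of fun i j => Sum.elim f e j i) a b =
      Matrix.toBilin' M (Sum.elim f e a) (Sum.elim f e b) := by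
    rw [Matrix.toBilin'_apply', Matrix.mul_assoc]
    rfl
  rw [h1]
  rcases a with a | a <;> rcases b with b | b <;> simp only [Sum.elim_inl, Sum.elim_inr, Matrix.J]
  · rw [hb.ff]; simp
  · rw [Classical.Alt.neg' hA (e b) (f a), hb.ef, Matrix.fromBlocks_apply₁₂, Matrix.neg_apply, Matrix.one_apply]
    by_cases h : a = b <;> simp [h, eq_comm]
  · rw [hb.ef, Matrix.fromBlocks_apply₂₁, Matrix.one_apply]
  · rw [hb.ee]; simp

theorem fB_congr (H : Matrix (Fin m ⊕ Fin m) (Fin m ⊕ Fin m) F) (u v : Vm m F) :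
    fB m F (H *ᵥ u) (H *ᵥ v) = Matrix.toBilin' (Hᵀ * Matrix.J (Fin m) F * H) u v := by
  rw [fB, Classical.sympB, ← Matrix.toBilin'_comp]
  rfl

/-- Adjusting a twisted coboundary to a conformal symplectic one. -/
theorem exists_gsp_of_coboundary (hm : 1 ≤ m) {σ : F ≃+* F} {g : Cfsg.GSp m F} {H : GL (Fin m ⊕ Fin m) F}
    (hH : g.1 * Matrix.GeneralLinearGroup.map (σ : F →+* F) H = H) :
    ∃ H' : Cfsg.GSp m F, g = H' * (fieldGSp σ H')⁻¹ := by
  classical
  obtain ⟨ν, hν⟩ := mem_GSp_iff.1 g.2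
  set G : Matrix (Fin m ⊕ Fin m) (Fin m ⊕ Fin m) F := (gmat H)ᵀ * Matrix.J (Fin m) F * gmat H with hG
  have hGapp : ∀ u v, Matrix.toBilin' G u v = fB m F (gmat H *ᵥ u) (gmat H *ᵥ v) := fun u v => (fB_congr _ u v).symm
  have hGij : ∀ i j, (ν : F) * σ (G i j) = G i j := fun i j => by
    have e1 : G i j = fB m F (gmat H *ᵥ Pi.single i 1) (gmat H *ᵥ Pi.single j 1) := by
      rw [← hGapp, Matrix.toBilin'_single]
    have e2 : ∀ l, gmat g.1 *ᵥ (fun x => σ ((gmat H *ᵥ Pi.single l 1) x)) = gmat H *ᵥ Pi.single l 1 := fun l => by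
      conv_rhs => rw [← hH, gmat_mul_mulVec]
      congr 1
      funext x
      rw [Matrix.mulVec_single_one, Matrix.mulVec_single_one]
      rfl
    rw [e1]
    conv_rhs => rw [← e2 i, ← e2 j, hν]
    exact congrArg ((ν : F) * ·) (fB_map (σ : F →+* F) _ _).symm
  have hGdet : G.det ≠ 0 := by
    rw [hG, Matrix.det_mul, Matrix.det_mul, Matrix.det_transpose]
    exact mul_ne_zero (mul_ne_zero (Matrix.GeneralLinearGroup.det_ne_zero H) (Matrix.isUnit_det_J (Fin m) F).ne_zero)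
      (Matrix.GeneralLinearGroup.det_ne_zero H)
  obtain ⟨i0, j0, ha⟩ : ∃ i j, G i j ≠ 0 := by
    by_contra hc
    push Not at hc
    exact hGdet (Matrix.det_eq_zero_of_row_eq_zero (Sum.inl ⟨0, hm⟩) (hc _))
  set a := G i0 j0 with had
  have hσa : (ν : F) * σ a = a := hGij i0 j0
  let K : Subfield F := (σ : F →+* F).eqLocusField (RingHom.id F)
  have hfix : ∀ i j, a⁻¹ * G i j ∈ K := fun i j => by
    show σ (a⁻¹ * G i j) = a⁻¹ * G i j
    have h1 : σ a ≠ 0 := (map_ne_zero σ).2 ha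
    rw [map_mul, map_inv₀]
    conv_rhs => rw [← hGij i j, ← hσa]
    field_simp [ν.ne_zero, h1]
  let M : Matrix (Fin m ⊕ Fin m) (Fin m ⊕ Fin m) K := fun i j => ⟨_, hfix i j⟩
  have hMmap : M.map K.subtype = a⁻¹ • G := Matrix.ext fun i j => rfl
  have hMdet : M.det ≠ 0 := fun h0 => by
    have h1 := RingHom.map_det K.subtype M
    rw [h0, map_zero, RingHom.mapMatrix_apply, hMmap, Matrix.det_smul] at h1
    exact mul_ne_zero (pow_ne_zero _ (inv_ne_zero ha)) hGdet h1.symm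
  have halt : ∀ u, Matrix.toBilin' M u u = 0 := fun u => by
    refine K.subtype.injective ?_
    rw [map_zero, Matrix.toBilin'_apply]
    simp only [map_sum, map_mul]
    have h1 : Matrix.toBilin' (a⁻¹ • G) (fun i => (u i : F)) (fun i => (u i : F)) = 0 := by
      rw [map_smul, LinearMap.smul_apply, LinearMap.smul_apply, hGapp, fB_self, smul_zero]
    rw [Matrix.toBilin'_apply] at h1
    exact h1
  obtain ⟨k, hk⟩ := exists_symp_congr M hMdet halt
  set k' : Matrix (Fin m ⊕ Fin m) (Fin m ⊕ Fin m) F := k.map K.subtype with hk'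
  have hk2 : k'ᵀ * (a⁻¹ • G) * k' = Matrix.J (Fin m) F := by
    rw [hk', ← Matrix.transpose_map, ← hMmap, ← Matrix.map_mul, ← Matrix.map_mul, hk, Matrix.J, Matrix.fromBlocks_map]
    simp [Matrix.J, Matrix.map_one, Matrix.map_neg]
  have hkdet : k'.det ≠ 0 := fun h0 => by
    have h1 := congrArg Matrix.det hk2
    rw [Matrix.det_mul, h0, mul_zero] at h1
    exact (Matrix.isUnit_det_J (Fin m) F).ne_zero h1.symm
  let kk : GL (Fin m ⊕ Fin m) F := Matrix.GeneralLinearGroup.mkOfDetNeZero k' hkdet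
  have hkfix : Matrix.GeneralLinearGroup.map (σ : F →+* F) kk = kk :=
    Units.ext (Matrix.ext fun i j => (k i j).2)
  have hmem : H * kk ∈ Cfsg.GSp m F := mem_GSp_iff.2 ⟨Units.mk0 a ha, fun u v => by
    rw [show ((H * kk : GL (Fin m ⊕ Fin m) F) : Matrix (Fin m ⊕ Fin m) (Fin m ⊕ Fin m) F) = gmat H * k' from rfl,
      fB_congr, Matrix.transpose_mul,
      show k'ᵀ * (gmat H)ᵀ * Matrix.J (Fin m) F * (gmat H * k') = k'ᵀ * G * k' by
        rw [hG]; simp only [Matrix.mul_assoc],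
      show k'ᵀ * G * k' = a • Matrix.J (Fin m) F by
        rw [← hk2, Matrix.mul_smul, Matrix.smul_mul, smul_smul, mul_inv_cancel₀ ha, one_smul],
      map_smul, LinearMap.smul_apply, LinearMap.smul_apply, smul_eq_mul, Units.val_mk0]
    rfl⟩
  refine ⟨⟨H * kk, hmem⟩, Subtype.ext ?_⟩
  show g.1 = H * kk * (Matrix.GeneralLinearGroup.map (σ : F →+* F) (H * kk))⁻¹
  rw [map_mul, hkfix, _root_.mul_inv_rev, ← mul_assoc, mul_inv_cancel_right, eq_mul_inv_iff_mul_eq, hH]

section Finite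

variable [Finite F] (p : ℕ) [Fact p.Prime] [CharP F p]
include p

/-- Twisted conjugacy in the inner-diagonal coset. -/
theorem coboundary_field (hm : 1 ≤ m) {σ : F ≃+* F} {r : ℕ} (hσ : orderOf σ = r) (g : Cfsg.GSp m F)
    (h : (conjA g * fieldA σ) ^ r = 1) :
    IsConjUnder (Cfsg.inndiagPSp m F) (fieldA σ) (conjA g * fieldA σ) := by
  have hσr : σ ^ r = 1 := by rw [← hσ]; exact pow_orderOf_eq_one σ
  rw [conjA_field_pow, hσr, map_one, mul_one, conjA_eq_one_iff p hm] at h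
  obtain ⟨c, hc⟩ := h
  have hc' : twS σ g r = scalarGSp c := Subtype.ext hc.symm
  obtain ⟨a, k, hk⟩ := AutPSL.exists_coboundary (n := m + m) (by omega) hσ (reGL g.1) (by
    rw [← reGL_twS, hc', reGL_scalar, Matrix.GeneralLinearGroup.center_eq_range_scalar]
    exact ⟨c, rfl⟩)
  set g' := scalarGSp a⁻¹ * g with hg'
  have hH : g'.1 * Matrix.GeneralLinearGroup.map (σ : F →+* F) (reGL.symm k) = reGL.symm k := by
    refine reGL.injective ?_
    rw [map_mul, reGL_field, MulEquiv.apply_symm_apply, hg', Subgroup.coe_mul, map_mul, reGL_scalar, hk,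
      ← mul_assoc (Matrix.GeneralLinearGroup.scalar (Fin (m + m)) a⁻¹), ← map_mul, inv_mul_cancel, map_one, one_mul,
      inv_mul_cancel_right]
  obtain ⟨H', hH'⟩ := exists_gsp_of_coboundary hm hH
  refine ⟨conjA H', conjA_mem H', ?_⟩
  have e : conjA g = conjA g' := by
    rw [hg', map_mul, conjA_of_scalar (g := scalarGSp a⁻¹) ⟨a⁻¹, rfl⟩, one_mul]
  rw [e, hH', map_mul, mul_assoc _ (fieldA σ), ← map_inv conjA H', conjA_field, map_inv (fieldGSp σ), mul_assoc]

theorem conjUnder_of_conj (hm : 2 ≤ m) (hcomm : ∀ σ τ : F ≃+* F, Commute σ τ) {α x : MulAut (Cfsg.PSp m F)}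
    {σ : F ≃+* F} (h : α * x * α⁻¹ = fieldA σ) : IsConjUnder (Cfsg.inndiagPSp m F) (fieldA σ) x := by
  haveI := inndiag_normal (F := F) p hm
  obtain ⟨a, J, ha, hJ, rfl⟩ := exists_decomp_all p hm hcomm α
  refine ⟨J⁻¹ * a⁻¹ * J⁻¹⁻¹, Subgroup.Normal.conj_mem inferInstance _ (inv_mem ha) _, ?_⟩
  have hx : x = J⁻¹ * a⁻¹ * fieldA σ * a * J := by rw [← h]; group
  rw [hx]
  calc J⁻¹ * a⁻¹ * fieldA σ * a * J
      = J⁻¹ * a⁻¹ * (J * fieldA σ * J⁻¹) * a * J := by rw [(hJ σ).eq, mul_inv_cancel_right]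
    _ = J⁻¹ * a⁻¹ * J⁻¹⁻¹ * fieldA σ * (J⁻¹ * a⁻¹ * J⁻¹⁻¹)⁻¹ := by group

end Finite

section Subfield

variable {F₀ : Type*} [Field F₀] (i : F₀ →+* F)

theorem fB_map₀ (u v : Vm m F₀) : fB m F (fun k => i (u k)) (fun k => i (v k)) = i (fB m F₀ u v) := by
  rw [fB, fB, Classical.sympB_eq_sum, Classical.sympB_eq_sum, map_sum]
  simp only [map_sub, map_mul]

theorem map_mulVec₀ (g : GL (Fin m ⊕ Fin m) F₀) (u : Vm m F₀) :
    gmat (Matrix.GeneralLinearGroup.map i g) *ᵥ (fun k => i (u k)) = fun k => i ((gmat g *ᵥ u) k) :=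
  funext fun k => (RingHom.map_mulVec i _ u k).symm

theorem mem_GSp_map (hm : 1 ≤ m) (g : GL (Fin m ⊕ Fin m) F₀) :
    Matrix.GeneralLinearGroup.map i g ∈ Cfsg.GSp m F ↔ g ∈ Cfsg.GSp m F₀ := by
  constructor
  · intro h
    obtain ⟨c, hc⟩ := mem_GSp_iff.1 h
    have h1 : ∀ u v : Vm m F₀, i (fB m F₀ (gmat g *ᵥ u) (gmat g *ᵥ v)) = (c : F) * i (fB m F₀ u v) := fun u v => by
      have := hc (fun k => i (u k)) (fun k => i (v k))
      rw [show (Matrix.GeneralLinearGroup.map i g : GL (Fin m ⊕ Fin m) F).val = gmat (Matrix.GeneralLinearGroup.map i g) from rfl,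
        map_mulVec₀, map_mulVec₀, fB_map₀, fB_map₀] at this
      exact this
    obtain ⟨w, hw⟩ := exists_fB_one (a0_ne_zero (F := F₀) hm)
    set c₀ := fB m F₀ (gmat g *ᵥ a0 hm F₀) (gmat g *ᵥ w)
    have hc0 : i c₀ = c := by rw [h1, hw, map_one, mul_one]
    have hc0ne : c₀ ≠ 0 := fun h0 => c.ne_zero (by rw [← hc0, h0, map_zero])
    refine mem_GSp_iff.2 ⟨Units.mk0 c₀ hc0ne, fun u v => i.injective ?_⟩
    rw [map_mul, Units.val_mk0, hc0, h1]
  · intro h
    obtain ⟨c, hc⟩ := mem_GSp_iff.1 h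
    refine mem_GSp_iff.2 ⟨Units.map (i : F₀ →* F) c, fun u v => ?_⟩
    have key : ∀ a b, fB m F (gmat (Matrix.GeneralLinearGroup.map i g) *ᵥ Pi.single a 1)
        (gmat (Matrix.GeneralLinearGroup.map i g) *ᵥ Pi.single b 1) = i c * fB m F (Pi.single a 1) (Pi.single b 1) := by
      intro a b
      have e : ∀ a : Fin m ⊕ Fin m, (Pi.single a 1 : Vm m F) = fun k => i ((Pi.single a 1 : Vm m F₀) k) :=
        fun a => funext fun k => by by_cases hk : k = a <;> simp [Pi.single_apply, hk]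
      rw [e a, e b, map_mulVec₀, map_mulVec₀, fB_map₀, fB_map₀, ← map_mul]
      exact congrArg i (hc _ _)
    have hb : (fB m F).comp (Matrix.toLin' (gmat (Matrix.GeneralLinearGroup.map i g)))
        (Matrix.toLin' (gmat (Matrix.GeneralLinearGroup.map i g))) = (i c) • fB m F :=
      LinearMap.BilinForm.ext_basis (Pi.basisFun F (Fin m ⊕ Fin m)) fun a b => by
        rw [Pi.basisFun_apply, Pi.basisFun_apply, LinearMap.smul_apply, LinearMap.smul_apply, smul_eq_mul, ← key]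
        rfl
    exact LinearMap.BilinForm.congr_fun hb u v

/-- The conformal symplectic group over a subfield. -/
def mapGSp (hm : 1 ≤ m) : Cfsg.GSp m F₀ →* Cfsg.GSp m F where
  toFun g := ⟨Matrix.GeneralLinearGroup.map i g.1, (mem_GSp_map i hm g.1).2 g.2⟩
  map_one' := Subtype.ext (map_one _)
  map_mul' a b := Subtype.ext (map_mul _ a.1 b.1)

theorem mult_mapGSp (hm : 1 ≤ m) (g : Cfsg.GSp m F₀) : mult hm (mapGSp i hm g) = Units.map (i : F₀ →* F) (mult hm g) := by
  obtain ⟨w, hw⟩ := exists_fB_one (a0_ne_zero (F := F₀) hm)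
  refine Units.ext ?_
  have h := mult_spec hm (mapGSp i hm g) (fun k => i (a0 hm F₀ k)) (fun k => i (w k))
  rw [show (mapGSp i hm g).1 = Matrix.GeneralLinearGroup.map i g.1 from rfl, map_mulVec₀, map_mulVec₀, fB_map₀,
    fB_map₀, mult_spec hm g, hw, mul_one, map_one, mul_one] at h
  exact h.symm

theorem scalarGSp_map (hm : 1 ≤ m) (a : F₀ˣ) :
    mapGSp i hm (scalarGSp a) = scalarGSp (Units.map (i : F₀ →* F) a) := by
  refine Subtype.ext (Units.ext ?_)
  show (gmat (scalarGSp (m := m) a).1).map i = gmat (scalarGSp (m := m) _).1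
  rw [gmat_scalarGSp, gmat_scalarGSp]
  ext u v
  by_cases huv : u = v <;> simp [Matrix.one_apply, huv]

theorem ker_mapGSp (hm : 1 ≤ m) :
    ((Geo.scalars (Fin m ⊕ Fin m) F).subgroupOf (Cfsg.GSp m F)).comap (mapGSp i hm) =
      (Geo.scalars (Fin m ⊕ Fin m) F₀).subgroupOf (Cfsg.GSp m F₀) := by
  rw [scalars_subgroupOf, scalars_subgroupOf]
  ext g
  constructor
  · rintro ⟨a, ha⟩
    have h1 : ∀ u v, i (gmat g.1 u v) = if u = v then (a : F) else 0 := fun u v => by
      have := congrArg (fun x : Cfsg.GSp m F => gmat x.1 u v) ha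
      rw [gmat_scalarGSp] at this
      rw [show i (gmat g.1 u v) = gmat (mapGSp i hm g).1 u v from rfl, ← this]
      simp [Matrix.one_apply]
    set o : Fin m ⊕ Fin m := Sum.inl ⟨0, hm⟩
    have ho : gmat g.1 o o ≠ 0 := fun h0 => a.ne_zero (by
      have := h1 o o
      rw [h0, map_zero, if_pos rfl] at this
      exact this.symm)
    refine ⟨Units.mk0 _ ho, Subtype.ext (Units.ext (Matrix.ext fun u v => i.injective ?_))⟩
    show i (gmat (scalarGSp (m := m) _).1 u v) = i (gmat g.1 u v)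
    rw [gmat_scalarGSp, Units.val_mk0, Matrix.smul_apply, Matrix.one_apply, smul_eq_mul, map_mul, h1, h1, if_pos rfl]
    by_cases huv : u = v <;> simp [huv]
  · rintro ⟨a, rfl⟩
    exact ⟨_, (scalarGSp_map i hm a).symm⟩

variable [Finite F] (p : ℕ) [Fact p.Prime] [CharP F p]
include p

/-- The centralizer of a standard field automorphism. -/
theorem centralizer_field (hm : 1 ≤ m) {σ : F ≃+* F} {r : ℕ} (hr : orderOf σ = r)
    (hi : ∀ x : F, σ x = x ↔ x ∈ i.range) :
    (mapGSp i hm).range.map conjA = Cfsg.inndiagPSp m F ⊓ Subgroup.centralizer {fieldA σ} := by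
  haveI : Finite (F ≃+* F) := Finite.of_injective (fun σ : F ≃+* F => (σ : F → F)) DFunLike.coe_injective
  have hr0 : 0 < r := by rw [← hr]; exact orderOf_pos σ
  ext x
  constructor
  · rintro ⟨g, ⟨g0, rfl⟩, rfl⟩
    refine Subgroup.mem_inf.2 ⟨conjA_mem _, ?_⟩
    rw [Subgroup.mem_centralizer_singleton_iff, conjA_field]
    congr 2
    exact (Subtype.ext (Units.ext (Matrix.ext fun a b => (hi _).2 ⟨_, rfl⟩))).symm
  · intro hx
    obtain ⟨hx, hc⟩ := Subgroup.mem_inf.1 hx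
    rw [inndiagPSp_eq] at hx
    obtain ⟨g, rfl⟩ := hx
    rw [Subgroup.mem_centralizer_singleton_iff, conjA_field] at hc
    have h1 : conjA (fieldGSp σ g * g⁻¹) = (1 : MulAut (Cfsg.PSp m F)) := by
      rw [map_mul, map_inv, ← mul_right_cancel hc, mul_inv_cancel]
    rw [conjA_eq_one_iff p hm] at h1
    obtain ⟨c, hcg⟩ := h1
    have hσg : fieldGSp σ g = scalarGSp c * g := by
      rw [show scalarGSp c = fieldGSp σ g * g⁻¹ from Subtype.ext hcg, inv_mul_cancel_right]
    have hent : ∀ u v, σ (gmat g.1 u v) = (c : F) * gmat g.1 u v := fun u v => by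
      have := congrArg (fun x : Cfsg.GSp m F => gmat x.1 u v) hσg
      rw [show gmat (scalarGSp c * g : Cfsg.GSp m F).1 = gmat (scalarGSp (m := m) c).1 * gmat g.1 from rfl,
        gmat_scalarGSp, Matrix.smul_mul, Matrix.one_mul] at this
      exact this
    have hpow : ∀ k u v, (σ ^ k) (gmat g.1 u v) = (∏ j ∈ Finset.range k, (σ ^ j) (c : F)) * gmat g.1 u v := fun k => by
      induction k with
      | zero => simp
      | succ k ih =>
        intro u v
        rw [pow_succ, RingAut.mul_apply, hent, map_mul, ih, Finset.prod_range_succ]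
        ring
    obtain ⟨u0, v0, hne⟩ : ∃ u v, gmat g.1 u v ≠ 0 := by
      by_contra hcc
      push Not at hcc
      exact Matrix.GeneralLinearGroup.det_ne_zero g.1 (Matrix.det_eq_zero_of_row_eq_zero (Sum.inl ⟨0, hm⟩) (hcc _))
    have hN : ∏ j ∈ Finset.range r, (σ ^ j) (c : F) = 1 := by
      have h2 := hpow r u0 v0
      rw [← hr, pow_orderOf_eq_one, RingAut.one_apply, hr] at h2
      exact mul_right_cancel₀ hne (h2.symm.trans (one_mul _).symm)
    obtain ⟨a, ha⟩ := AutPSL.hilbert90_units hr hr0 hN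
    set g' := scalarGSp a * g with hg'
    have hent' : ∀ u v, gmat g'.1 u v = (a : F) * gmat g.1 u v := fun u v => by
      rw [hg', show gmat (scalarGSp a * g : Cfsg.GSp m F).1 = gmat (scalarGSp (m := m) a).1 * gmat g.1 from rfl,
        gmat_scalarGSp, Matrix.smul_mul, Matrix.one_mul]
      rfl
    have hfix : ∀ u v, σ (gmat g'.1 u v) = gmat g'.1 u v := fun u v => by
      rw [hent', map_mul, hent]
      conv_rhs => rw [← ha]
      ring
    choose M hM using fun u v => (hi _).1 (hfix u v)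
    have hdet : (Matrix.of M).det ≠ 0 := fun h0 => by
      apply Matrix.GeneralLinearGroup.det_ne_zero g'.1
      rw [show (g'.1 : Matrix (Fin m ⊕ Fin m) (Fin m ⊕ Fin m) F) = i.mapMatrix (Matrix.of M) from
        Matrix.ext fun u v => (hM u v).symm, ← RingHom.map_det, h0, map_zero]
    let g0 : GL (Fin m ⊕ Fin m) F₀ := Matrix.GeneralLinearGroup.mkOfDetNeZero _ hdet
    have hg0 : Matrix.GeneralLinearGroup.map i g0 = g'.1 := Units.ext (Matrix.ext fun u v => hM u v)
    refine ⟨g', ⟨⟨g0, (mem_GSp_map i hm g0).1 (hg0 ▸ g'.2)⟩, Subtype.ext hg0⟩, ?_⟩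
    rw [hg', map_mul, conjA_of_scalar (g := scalarGSp a) ⟨a, rfl⟩, one_mul]

theorem centralizer_iso (hm : 1 ≤ m) {σ : F ≃+* F} {r : ℕ} (hr : orderOf σ = r)
    (hi : ∀ x : F, σ x = x ↔ x ∈ i.range) :
    Nonempty (↥(Cfsg.inndiagPSp m F ⊓ Subgroup.centralizer {fieldA σ}) ≃* Cfsg.PGSp m F₀) := by
  have hk : (conjA.comp (mapGSp i hm)).ker = (Geo.scalars (Fin m ⊕ Fin m) F₀).subgroupOf (Cfsg.GSp m F₀) := by
    rw [← MonoidHom.comap_ker, ker_conjA p hm, ker_mapGSp]
  exact ⟨((MulEquiv.subgroupCongr (centralizer_field i p hm hr hi).symm).trans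
    (MulEquiv.subgroupCongr (MonoidHom.map_range _ _))).trans
    ((QuotientGroup.quotientKerEquivRange _).symm.trans (QuotientGroup.quotientMulEquivOfEq hk))⟩

theorem split_count (hm : 1 ≤ m) [Fintype F₀] [Fintype F] {σ : F ≃+* F} {r : ℕ} (hr : orderOf σ = r)
    (hi : ∀ x : F, σ x = x ↔ x ∈ i.range) {d : ℕ} (hd : d * (Fintype.card F₀ - 1) = Fintype.card F - 1) :
    splitClassCount (Cfsg.inndiagPSp m F) (Cfsg.Inn (Cfsg.PSp m F)) (fieldA σ) = Nat.gcd 2 d := by
  rw [AutPSL.splitClassCount_eq_relIndex _ _ inn_le_inndiag, ← centralizer_field i p hm hr hi, relIndex_eq p hm,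
    MonoidHom.map_range]
  have e : ((mult hm).comp (mapGSp i hm)).range = (Units.map (i : F₀ →* F)).range := by
    ext a
    constructor
    · rintro ⟨g, rfl⟩
      exact ⟨mult hm g, (mult_mapGSp i hm g).symm⟩
    · rintro ⟨b, rfl⟩
      obtain ⟨g, rfl⟩ := mult_surjective hm b
      exact ⟨g, mult_mapGSp i hm g⟩
  rw [e]
  exact AutPSL.index_pow_sup 2 _ (by rw [AutPSL.card_range_units_map, hd])

end Subfield

end Cfsg.Agent.AutPSp
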