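import Cfsg.Agent.AutPSp.Decomp

/-!
The exceptional graph automorphism of Sp_4 in characteristic two, via second minors.
-/

set_option autoImplicit false

namespace Cfsg.Agent.AutPSp.Graph

open Matrix

variable {F : Type*} [Field F]

/-- The index type. -/
abbrev I := Fin 2 ⊕ Fin 2

/-- The pairs of non-conjugate indices. -/
def pr : I → I × I :=
  Sum.elim ![(Sum.inl 0, Sum.inl 1), (Sum.inl 0, Sum.inr 1)] ![(Sum.inr 0, Sum.inr 1), (Sum.inr 0, Sum.inl 1)]

/-- Second minors. -/
def minors (M : Matrix I I F) : Matrix I I F := fun A B =>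
  M (pr A).1 (pr B).1 * M (pr A).2 (pr B).2 + M (pr A).1 (pr B).2 * M (pr A).2 (pr B).1

theorem minors_apply (M : Matrix I I F) (A B : I) : minors M A B =
  M (pr A).1 (pr B).1 * M (pr A).2 (pr B).2 + M (pr A).1 (pr B).2 * M (pr A).2 (pr B).1 := rfl

theorem minors_transpose (M : Matrix I I F) : minors Mᵀ = (minors M)ᵀ := by
  ext A B
  simp only [minors_apply, Matrix.transpose_apply]
  ring

theorem fB_two (u v : Vm 2 F) [CharP F 2] : fB 2 F u v =
    u (Sum.inr 0) * v (Sum.inl 0) + u (Sum.inl 0) * v (Sum.inr 0) +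
      (u (Sum.inr 1) * v (Sum.inl 1) + u (Sum.inl 1) * v (Sum.inr 1)) := by
  rw [fB, Classical.sympB_eq_sum, Fin.sum_univ_two]
  simp only [CharTwo.sub_eq_add]

theorem fB_pr [CharP F 2] (A : I) :
    fB 2 F (Pi.single (pr A).1 1) (Pi.single (pr A).2 1) = 0 := by
  rw [fB_two]
  rcases A with i | i <;> fin_cases i <;> simp [pr]

/-- The rows of a symplectic matrix. -/
theorem fB_row [CharP F 2] (s : Spm 2 F) (A : I) : fB 2 F (fun k => mat s (pr A).1 k) (fun k => mat s (pr A).2 k) = 0 := by
  have h := (Classical.mem_symplectic_iff _).1 (SymplecticGroup.transpose_mem s.2) (Pi.single (pr A).1 1) (Pi.single (pr A).2 1)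
  rw [Matrix.mulVec_single_one, Matrix.mulVec_single_one] at h
  rw [show Classical.sympB 2 F (Pi.single (pr A).1 1) (Pi.single (pr A).2 1) = 0 from fB_pr A] at h
  exact h

/-- The columns of a symplectic matrix. -/
theorem fB_col [CharP F 2] (s : Spm 2 F) (A : I) : fB 2 F (fun k => mat s k (pr A).1) (fun k => mat s k (pr A).2) = 0 := by
  have h := (Classical.mem_symplectic_iff _).1 s.2 (Pi.single (pr A).1 1) (Pi.single (pr A).2 1)
  rw [Matrix.mulVec_single_one, Matrix.mulVec_single_one] at h
  rw [show Classical.sympB 2 F (Pi.single (pr A).1 1) (Pi.single (pr A).2 1) = 0 from fB_pr A] at h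
  exact h

variable [CharP F 2]

theorem minors_mul (s t : Spm 2 F) : minors (mat s * mat t) = minors (mat s) * minors (mat t) := by
  ext A B
  have h1 := fB_row s A
  have h2 := fB_col t B
  rw [fB_two] at h1 h2
  simp only [minors_apply, Matrix.mul_apply, Fintype.sum_sum_type, Fin.sum_univ_two]
  simp only [pr, Sum.elim_inl, Sum.elim_inr, Matrix.cons_val_zero, Matrix.cons_val_one] at *
  grind

theorem minors_one : minors (1 : Matrix I I F) = 1 := by
  ext A B
  rcases A with i | i <;> rcases B with j | j <;> fin_cases i <;> fin_cases j <;>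
    simp [minors_apply, pr, Matrix.one_apply]

theorem minors_J : minors (Matrix.J (Fin 2) F) = Matrix.J (Fin 2) F := by
  ext A B
  rcases A with i | i <;> rcases B with j | j <;> fin_cases i <;> fin_cases j <;>
    simp [minors_apply, pr, Matrix.J, CharTwo.neg_eq]

theorem minors_mem (s : Spm 2 F) : minors (mat s) ∈ Matrix.symplecticGroup (Fin 2) F := by
  rw [SymplecticGroup.mem_iff, ← minors_transpose]
  let J' : Spm 2 F := ⟨Matrix.J (Fin 2) F, SymplecticGroup.J_mem _ _⟩
  let sT : Spm 2 F := ⟨(mat s)ᵀ, SymplecticGroup.transpose_mem s.2⟩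
  have h1 : minors (mat s * mat J') = minors (mat s) * minors (mat J') := minors_mul s J'
  have h2 : minors (mat (s * J') * mat sT) = minors (mat (s * J')) * minors (mat sT) := minors_mul (s * J') sT
  have h3 : mat s * mat J' * mat sT = mat J' := SymplecticGroup.mem_iff.1 s.2
  rw [show mat (s * J') = mat s * mat J' from rfl, h3, h1] at h2
  rw [show minors (mat J') = Matrix.J (Fin 2) F from minors_J] at h2
  exact h2.symm

/-- The graph endomorphism. -/
def phiHom : Spm 2 F →* Spm 2 F where
  toFun s := ⟨minors (mat s), minors_mem s⟩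
  map_one' := sp_ext minors_one
  map_mul' s t := sp_ext (minors_mul s t)

theorem mat_phiHom (s : Spm 2 F) : mat (phiHom s) = minors (mat s) := rfl

theorem mat_tvS (v : Vm 2 F) (c : F) (i j : I) : mat (tvS v c) i j = (1 : Matrix I I F) i j +
    c * (v i * Sum.elim (fun k => v (Sum.inr k)) (fun k => v (Sum.inl k)) j) := by
  show Cfsg.sympTransvection 2 v c i j = _
  rw [Cfsg.sympTransvection, Matrix.add_apply, Matrix.smul_apply, Matrix.vecMulVec_apply, smul_eq_mul]
  congr 2
  rcases j with j | j <;> simp [Matrix.J, Matrix.fromBlocks_mulVec, Matrix.mulVec, dotProduct, Fintype.sum_sum_type,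
    Fin.sum_univ_two, CharTwo.neg_eq, Matrix.one_apply] <;> fin_cases j <;> simp

theorem phiHom_phiHom_tvS (v : Vm 2 F) (c : F) : phiHom (phiHom (tvS v c)) = tvS (fun i => v i ^ 2) (c ^ 2) := by
  refine sp_ext (Matrix.ext fun A B => ?_)
  rw [mat_phiHom, mat_phiHom]
  rcases A with i | i <;> rcases B with j | j <;> fin_cases i <;> fin_cases j <;>
    simp [minors_apply, pr, mat_tvS, Matrix.one_apply] <;> grind

theorem tvS_frob (v : Vm 2 F) (c : F) : (mat (tvS v c)).map (frobenius F 2) = mat (tvS (fun i => v i ^ 2) (c ^ 2)) := by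
  refine Matrix.ext fun i j => ?_
  rw [Matrix.map_apply, mat_tvS, mat_tvS, map_add, map_mul, map_mul]
  rcases j with j | j <;> rcases i with i | i <;> simp [frobenius_def, Matrix.one_apply, apply_ite (· ^ 2)]

theorem phiHom_phiHom (s : Spm 2 F) : mat (phiHom (phiHom s)) = (mat s).map (frobenius F 2) := by
  let H : Subgroup (Spm 2 F) :=
    { carrier := {s | mat (phiHom (phiHom s)) = (mat s).map (frobenius F 2)}
      one_mem' := by
        show mat (phiHom (phiHom 1)) = (mat (1 : Spm 2 F)).map (frobenius F 2)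
        rw [map_one, map_one]
        exact (Matrix.map_one _ (map_zero _) (map_one _)).symm
      mul_mem' := fun {a b} ha hb => by
        show mat (phiHom (phiHom (a * b))) = (mat a * mat b).map (frobenius F 2)
        rw [map_mul, map_mul, Matrix.map_mul, ← ha, ← hb]
        rfl
      inv_mem' := fun {a} ha => by
        show mat (phiHom (phiHom a⁻¹)) = (mat a⁻¹).map (frobenius F 2)
        have h1 : (mat a⁻¹).map (frobenius F 2) * (mat a).map (frobenius F 2) = 1 := by
          rw [← Matrix.map_mul]
          show (mat (a⁻¹ * a)).map _ = 1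
          rw [inv_mul_cancel]
          exact Matrix.map_one _ (map_zero _) (map_one _)
        have h2 : mat (phiHom (phiHom a)) * mat (phiHom (phiHom a⁻¹)) = 1 := by
          show mat (phiHom (phiHom a) * phiHom (phiHom a⁻¹)) = 1
          rw [← map_mul, ← map_mul, mul_inv_cancel, map_one, map_one]
          rfl
        rw [ha] at h2
        exact (left_inv_eq_right_inv h1 h2).symm }
  have : H = ⊤ := eq_top_of_tvS H fun v c => by
    show mat (phiHom (phiHom (tvS v c))) = _
    rw [phiHom_phiHom_tvS, tvS_frob]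
  have hs : s ∈ H := by rw [this]; exact Subgroup.mem_top s
  exact hs

theorem phiHom_injective : Function.Injective (phiHom (F := F)) := by
  refine (injective_iff_map_eq_one _).2 fun s hs => sp_ext (Matrix.ext fun i j => ?_)
  have h := phiHom_phiHom s
  rw [hs, map_one] at h
  have h' := congrFun (congrFun h i) j
  rw [Matrix.map_apply] at h'
  refine (frobenius_inj F 2) (h'.symm.trans ?_)
  show (1 : Matrix I I F) i j = frobenius F 2 ((1 : Matrix I I F) i j)
  rw [Matrix.one_apply]
  split <;> simp

variable [Finite F]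

/-- The graph automorphism of Sp_4. -/
noncomputable def phiSp : MulAut (Spm 2 F) :=
  MulEquiv.ofBijective phiHom (Finite.injective_iff_bijective.1 phiHom_injective)

theorem phiSp_apply (s : Spm 2 F) : phiSp s = phiHom s := rfl

/-- The graph automorphism of PSp_4. -/
noncomputable def phiA : MulAut (Cfsg.PSp 2 F) := toPSpAut phiSp

theorem phiA_mkS (s : Spm 2 F) : phiA (mkS s) = mkS (phiHom s) := rfl

theorem phiA_field (σ : F ≃+* F) : phiA * fieldA σ = fieldA σ * phiA := by
  refine autExt fun s => ?_
  show mkS (phiHom (fieldSp σ s)) = mkS (fieldSp σ (phiHom s))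
  congr 1
  refine sp_ext (Matrix.ext fun A B => ?_)
  simp only [mat_phiHom, mat_fieldSp, minors_apply, Matrix.map_apply, map_add, map_mul]

/-- The Frobenius as a field automorphism. -/
noncomputable def frobE (F : Type*) [Field F] [Finite F] [CharP F 2] : F ≃+* F :=
  RingEquiv.ofBijective (frobenius F 2) (Finite.injective_iff_bijective.1 (frobenius_inj F 2))

theorem phiA_sq : phiA * phiA = fieldA (frobE F) :=
  autExt fun s => congrArg mkS (sp_ext (phiHom_phiHom s))

theorem phiHom_tvS_base (t : F) : phiHom (tvS (Pi.single (Sum.inl 0) 1) t) =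
    qtS (Pi.single (Sum.inl 0) 1) (t • Pi.single (Sum.inl 1) 1) 0 := by
  refine sp_ext_mulVec fun x => ?_
  rw [qtS_mulVec (by rw [fB_two]; simp), fB_two, fB_two, mat_phiHom]
  funext A
  rw [Matrix.mulVec, dotProduct, Fintype.sum_sum_type, Fin.sum_univ_two, Fin.sum_univ_two]
  rcases A with i | i <;> fin_cases i <;> simp [minors_apply, pr, mat_tvS, Matrix.one_apply] <;> ring

end Cfsg.Agent.AutPSp.Graph
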