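import Cfsg.Agent.AutPSp.Central
import Cfsg.Agent.AutPSp.FTPG

/-!
Automorphisms of PSp preserving transvections are semilinear; when an automorphism preserves transvections.
-/

set_option autoImplicit false

namespace Cfsg.Agent.AutPSp

open Matrix

variable {m : ℕ} {F : Type*} [Field F]

/-- β maps transvections to transvections. -/
def TPres (β : MulAut (Cfsg.PSp m F)) : Prop :=
  ∀ (e : Vm m F) (c : F), e ≠ 0 → ∃ e' c', e' ≠ 0 ∧ β (mkS (tvS e c)) = mkS (tvS e' c')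

theorem TPres.of_one (p : ℕ) [Fact p.Prime] [CharP F p] [Finite F] {β : MulAut (Cfsg.PSp m F)} (hp : p = 2)
    {e₀ : Vm m F} (he₀ : e₀ ≠ 0) {e₁ : Vm m F} {c₁ : F} (he₁ : e₁ ≠ 0)
    (h : β (mkS (tvS e₀ 1)) = mkS (tvS e₁ c₁)) : TPres β := by
  intro e c he
  by_cases hc : c = 0
  · exact ⟨e₀, 0, he₀, by rw [hc, tvS_zero, tvS_zero, map_one, map_one]⟩
  haveI := Fintype.ofFinite F
  obtain ⟨r, hr⟩ := FiniteField.isSquare_of_char_two
    (show ringChar F = 2 by rw [ringChar.eq F p, hp]) c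
  have hr0 : r ≠ 0 := fun h0 => hc (by rw [hr, h0, mul_zero])
  obtain ⟨g, hg⟩ := Classical.Alt.exists_iso_map Classical.sympB_isAlt Classical.sympB_nondeg he₀
    (smul_ne_zero hr0 he)
  set s := (Classical.spEquiv m F).symm g with hs
  have hse : mat s *ᵥ e₀ = r • e := (Classical.spEquiv_symm_mulVec g e₀).trans hg
  have ht : tvS e c = s * tvS e₀ 1 * s⁻¹ := by rw [conj_tvS, hse, tvS_smul, mul_one, hr, pow_two]
  obtain ⟨u, hu⟩ := mkS_surjective (β (mkS s))
  refine ⟨mat u *ᵥ e₁, c₁, mat_mulVec_ne_zero u he₁, ?_⟩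
  rw [ht, map_mul, map_mul, map_mul, map_mul, map_inv, map_inv, h, ← hu, ← conj_tvS, map_mul, map_mul, map_inv]

section Semilinear

variable [Finite F] (p : ℕ) [Fact p.Prime] [CharP F p]
include p

theorem commute_mkS_iff (hm : 1 ≤ m) {v w : Vm m F} (hv : v ≠ 0) (hw : w ≠ 0) {c d : F} (hc : c ≠ 0) (hd : d ≠ 0) :
    Commute (mkS (tvS v c)) (mkS (tvS w d)) ↔ fB m F v w = 0 :=
  ⟨fun h => (tvS_commute_iff hv hw hc hd).1 (commute_of_mkS p hm (tvS_pow_p p v c) h),
    fun h => ((tvS_commute_iff hv hw hc hd).2 h).map mkS⟩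

theorem mkS_tvS_ne_one (hm : 1 ≤ m) {v : Vm m F} (hv : v ≠ 0) {c : F} (hc : c ≠ 0) : mkS (tvS v c) ≠ 1 := by
  intro h
  have h1 := eq_of_mkS_eq p hm (tvS_pow_p p v c) (one_pow (p ^ 1)) (h.trans (map_one _).symm)
  exact hc ((tvS_eq_one_iff hv).1 h1)

theorem mkS_tvS_inj (hm : 1 ≤ m) {v w : Vm m F} (hv : v ≠ 0) {c d : F} (hc : c ≠ 0)
    (h : mkS (tvS v c) = mkS (tvS w d)) : ∃ a : F, w = a • v :=
  tvS_inj hv hc (eq_of_mkS_eq p hm (tvS_pow_p p v c) (tvS_pow_p p w d) h)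

/-- An automorphism preserving transvections is semilinear. -/
theorem TPres.semilinear (hm : 2 ≤ m) {β : MulAut (Cfsg.PSp m F)} (hβ : TPres β) :
    ∃ (g : Cfsg.GSp m F) (σ : F ≃+* F), β = conjA g * fieldA σ := by
  classical
  have hm1 : 1 ≤ m := by omega
  -- the point map
  have hone : ∀ v : Vm m F, ∃ e c, v ≠ 0 → e ≠ 0 ∧ c ≠ 0 ∧ β (mkS (tvS v 1)) = mkS (tvS e c) := by
    intro v
    by_cases hv : v = 0
    · exact ⟨0, 0, fun h => absurd hv h⟩
    obtain ⟨e, c, he, h⟩ := hβ v 1 hv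
    refine ⟨e, c, fun _ => ⟨he, fun hc => ?_, h⟩⟩
    rw [hc, tvS_zero, map_one] at h
    exact mkS_tvS_ne_one p hm1 hv one_ne_zero (β.injective (h.trans (map_one β).symm))
  choose P C hPC using hone
  -- transvections are permuted
  let T : Set (Cfsg.PSp m F) := {x | ∃ e c, e ≠ 0 ∧ x = mkS (tvS e c)}
  haveI : Finite (Cfsg.PSp m F) := Finite.of_surjective _ mkS_surjective
  have hT : β '' T = T := by
    refine Set.eq_of_subset_of_ncard_le ?_ (by rw [Set.ncard_image_of_injective _ β.injective]) (Set.toFinite T)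
    rintro _ ⟨x, ⟨e, c, he, rfl⟩, rfl⟩
    obtain ⟨e', c', he', h⟩ := hβ e c he
    exact ⟨e', c', he', h⟩
  have hsurj : ∀ y : Vm m F, y ≠ 0 → ∃ v c, v ≠ 0 ∧ c ≠ 0 ∧ β (mkS (tvS v c)) = mkS (tvS y 1) := fun y hy => by
    have : mkS (tvS y 1) ∈ β '' T := by rw [hT]; exact ⟨y, 1, hy, rfl⟩
    obtain ⟨_, ⟨v, c, hv, rfl⟩, h⟩ := this
    refine ⟨v, c, hv, fun hc => ?_, h⟩
    rw [hc, tvS_zero, map_one, map_one] at h
    exact mkS_tvS_ne_one p hm1 hy one_ne_zero h.symm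
  -- images with any parameter lie at the same point
  have himg : ∀ {v e : Vm m F} {c d : F}, v ≠ 0 → e ≠ 0 → c ≠ 0 → d ≠ 0 → β (mkS (tvS v c)) = mkS (tvS e d) →
      ∀ y, y ≠ 0 → ∀ w a, w ≠ 0 → a ≠ 0 → β (mkS (tvS w a)) = mkS (tvS y 1) →
        (fB m F e y = 0 ↔ fB m F v w = 0) := by
    intro v e c d hv he hc hd h y hy w a hw ha h'
    rw [← commute_mkS_iff p hm1 he hy hd one_ne_zero, ← commute_mkS_iff p hm1 hv hw hc ha, ← h, ← h']
    exact ⟨fun hc => by simpa using hc.map β.symm, fun hc => hc.map β⟩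
  have hsame : ∀ {v e : Vm m F} {c d : F}, v ≠ 0 → e ≠ 0 → c ≠ 0 → d ≠ 0 → β (mkS (tvS v c)) = mkS (tvS e d) →
      ∃ a : F, e = a • P v := by
    intro v e c d hv he hc hd h
    obtain ⟨hP, hC, h1⟩ := hPC v hv
    refine perp_perp hP fun y hy => ?_
    by_cases hy0 : y = 0
    · rw [hy0, map_zero, LinearMap.zero_apply]
    obtain ⟨w, a, hw, ha, h'⟩ := hsurj y hy0
    rw [fB_comm_zero, himg hv he hc hd h y hy0 w a hw ha h', ← himg hv hP one_ne_zero hC h1 y hy0 w a hw ha h']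
    exact fB_comm_zero.1 hy
  have hperp : ∀ {v w : Vm m F}, v ≠ 0 → w ≠ 0 → (fB m F (P v) (P w) = 0 ↔ fB m F v w = 0) := by
    intro v w hv hw
    obtain ⟨hP, hC, h1⟩ := hPC v hv
    obtain ⟨hP', hC', h2⟩ := hPC w hw
    rw [← commute_mkS_iff p hm1 hP hP' hC hC', ← commute_mkS_iff p hm1 hv hw (one_ne_zero (α := F)) one_ne_zero,
      ← h1, ← h2]
    exact ⟨fun hc => by simpa using hc.map β.symm, fun hc => hc.map β⟩
  have hpre : ∀ y : Vm m F, y ≠ 0 → ∃ v, v ≠ 0 ∧ ∃ a : F, a ≠ 0 ∧ y = a • P v := fun y hy => by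
    obtain ⟨v, c, hv, hc, h⟩ := hsurj y hy
    obtain ⟨a, ha⟩ := hsame hv hy hc one_ne_zero h
    exact ⟨v, hv, a, fun h0 => hy (by rw [ha, h0, zero_smul]), ha⟩
  have hline : IsLineMap P := by
    refine ⟨fun v hv => (hPC v hv).1, fun v a hv ha => ?_, fun v w hv hw hc => ?_,
      fun v w x hv hw hx _ hmem => ?_⟩
    · obtain ⟨hP, hC, h⟩ := hPC (a • v) (smul_ne_zero ha hv)
      rw [tvS_smul, mul_one] at h
      exact hsame hv hP (pow_ne_zero 2 ha) hC h
    · obtain ⟨c, hc⟩ := hc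
      refine perp_perp hv fun y hy => ?_
      by_cases hy0 : y = 0
      · rw [hy0, map_zero, LinearMap.zero_apply]
      rw [← hperp hy0 hw, hc, map_smul, (hperp hy0 hv).2 hy, smul_zero]
    · obtain ⟨hPv, -, -⟩ := hPC v hv
      let L : Fin 2 → Module.Dual F (Vm m F) := ![fB m F (P v), fB m F (P w)]
      have hker : ⨅ i, LinearMap.ker (L i) ≤ LinearMap.ker (fB m F (P x)) := by
        intro y hy
        rw [Submodule.mem_iInf] at hy
        have h0 := hy 0
        have h1 := hy 1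
        simp only [L, Matrix.cons_val_zero, Matrix.cons_val_one, LinearMap.mem_ker] at h0 h1
        rw [LinearMap.mem_ker]
        by_cases hy0 : y = 0
        · rw [hy0, map_zero]
        obtain ⟨y', hy', a, ha, rfl⟩ := hpre y hy0
        rw [map_smul, smul_eq_mul, mul_eq_zero, hperp hx hy'] at *
        rw [hperp hv hy'] at h0
        rw [hperp hw hy'] at h1
        refine Or.inr ?_
        obtain ⟨s, t, rfl⟩ := Submodule.mem_span_pair.1 hmem
        simp [h0.resolve_left ha, h1.resolve_left ha]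
      have hsp := mem_span_of_iInf_ker_le_ker hker
      rw [show Set.range L = (fB m F) '' {P v, P w} by
        rw [Set.image_pair]; simp [L, Matrix.range_cons, Matrix.range_empty, Set.pair_comm],
        ← Submodule.map_span, Submodule.mem_map] at hsp
      obtain ⟨z, hz, hzx⟩ := hsp
      have : z = P x := sub_eq_zero.1 (eq_zero_of_fB fun y => by
        rw [map_sub, hzx, sub_self, LinearMap.zero_apply])
      exact this ▸ hz
  obtain ⟨g, σ, hg⟩ := hline.exists_semilinear (by simp; omega)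
  let S : Vm m F → Vm m F := fun v => (g : Matrix (Fin m ⊕ Fin m) (Fin m ⊕ Fin m) F) *ᵥ fun i => σ (v i)
  have hS0 : ∀ {v : Vm m F}, v ≠ 0 → ∃ c : F, c ≠ 0 ∧ P v = c • S v := fun {v} hv => by
    obtain ⟨c, hc⟩ := hg v hv
    exact ⟨c, fun h => (hPC v hv).1 (by rw [hc, h, zero_smul]), hc⟩
  have hSperp : ∀ x y : Vm m F, fB m F x y = 0 →
      fB m F ((g : Matrix (Fin m ⊕ Fin m) (Fin m ⊕ Fin m) F) *ᵥ x)
        ((g : Matrix (Fin m ⊕ Fin m) (Fin m ⊕ Fin m) F) *ᵥ y) = 0 := fun x y hxy => by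
    by_cases hx : x = 0
    · rw [hx, Matrix.mulVec_zero, map_zero, LinearMap.zero_apply]
    by_cases hy : y = 0
    · rw [hy, Matrix.mulVec_zero, map_zero]
    set x' : Vm m F := fun i => σ.symm (x i) with hx'
    set y' : Vm m F := fun i => σ.symm (y i) with hy'
    have ex : (fun i => σ (x' i)) = x := funext fun i => σ.apply_symm_apply _
    have ey : (fun i => σ (y' i)) = y := funext fun i => σ.apply_symm_apply _
    have hxne : x' ≠ 0 := fun h => hx (by rw [← ex, h]; funext i; simp)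
    have hyne : y' ≠ 0 := fun h => hy (by rw [← ey, h]; funext i; simp)
    obtain ⟨a, ha, ea⟩ := hS0 hxne
    obtain ⟨b, hb, eb⟩ := hS0 hyne
    have h0 : fB m F x' y' = 0 := by
      have := fB_map ((σ.symm : F ≃+* F) : F →+* F) x y
      rw [hxy, map_zero] at this
      exact this
    have h1 := (hperp hxne hyne).2 h0
    rw [ea, eb, map_smul, map_smul, LinearMap.smul_apply, smul_eq_mul, smul_eq_mul] at h1
    have h2 := ((mul_eq_zero.1 h1).resolve_left hb)
    have h3 := (mul_eq_zero.1 h2).resolve_left ha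
    simp only [S, ex, ey] at h3
    exact h3
  -- the similitude factor
  let B' : Vm m F → Vm m F → F := fun x y =>
    fB m F ((g : Matrix (Fin m ⊕ Fin m) (Fin m ⊕ Fin m) F) *ᵥ x) ((g : Matrix (Fin m ⊕ Fin m) (Fin m ⊕ Fin m) F) *ᵥ y)
  have hfac : ∀ x : Vm m F, ∃ a : F, ∀ y, B' x y = a * fB m F x y := fun x => by
    by_cases hx : x = 0
    · exact ⟨0, fun y => by simp [B', hx]⟩
    obtain ⟨f, hf⟩ := exists_fB_one hx
    refine ⟨B' x f, fun y => ?_⟩
    have h0 : fB m F x (y - fB m F x y • f) = 0 := by rw [map_sub, map_smul, smul_eq_mul, hf, mul_one, sub_self]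
    have h1 := hSperp x _ h0
    rw [Matrix.mulVec_sub, Matrix.mulVec_smul, map_sub, map_smul, smul_eq_mul, sub_eq_zero] at h1
    rw [mul_comm]; exact h1
  choose μ hμ using hfac
  have hμeq : ∀ {x y : Vm m F}, x ≠ 0 → y ≠ 0 → (∀ a : F, y ≠ a • x) → μ x = μ y := by
    intro x y hx hy hne
    obtain ⟨z, hz1, hz2⟩ : ∃ z, fB m F z x = 0 ∧ fB m F z y ≠ 0 := by
      by_contra hc
      push Not at hc
      obtain ⟨a, ha⟩ := perp_perp hx hc
      exact hne a ha
    obtain ⟨w, hw1, hw2⟩ : ∃ z, fB m F z y = 0 ∧ fB m F z x ≠ 0 := by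
      by_contra hc
      push Not at hc
      obtain ⟨a, ha⟩ := perp_perp hy hc
      have ha0 : a ≠ 0 := fun h => hx (by rw [ha, h, zero_smul])
      exact hne a⁻¹ (by rw [ha, smul_smul, inv_mul_cancel₀ ha0, one_smul])
    have hadd : ∀ z, μ (x + y) * (fB m F x z + fB m F y z) = μ x * fB m F x z + μ y * fB m F y z := fun z => by
      rw [← hμ x z, ← hμ y z, ← LinearMap.add_apply, ← map_add, ← hμ (x + y) z]
      simp only [B', Matrix.mulVec_add, map_add, LinearMap.add_apply]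
    have e1 := hadd z
    have e2 := hadd w
    rw [fB_comm_zero.1 hz1, zero_add, mul_zero, zero_add] at e1
    rw [fB_comm_zero.1 hw1, add_zero, mul_zero, add_zero] at e2
    exact (mul_right_cancel₀ (fun h => hw2 (fB_comm_zero.1 h)) e2).symm.trans
      (mul_right_cancel₀ (fun h => hz2 (fB_comm_zero.1 h)) e1)
  obtain ⟨x0, hx0⟩ : ∃ x : Vm m F, x ≠ 0 :=
    ⟨Pi.single (Sum.inl ⟨0, hm1⟩) 1, Pi.single_ne_zero_iff.2 one_ne_zero⟩
  obtain ⟨z0, hz0⟩ := exists_fB_one hx0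
  have hz00 : z0 ≠ 0 := fun h => by rw [h, map_zero] at hz0; exact zero_ne_one hz0
  have hzx : ∀ a : F, z0 ≠ a • x0 := fun a h => by
    rw [h, map_smul, fB_self, smul_zero] at hz0; exact zero_ne_one hz0
  have hconst : ∀ {x : Vm m F}, x ≠ 0 → μ x = μ x0 := fun {x} hx => by
    by_cases h : ∀ a : F, x ≠ a • x0
    · exact (hμeq hx0 hx h).symm
    · push Not at h
      obtain ⟨a, ha⟩ := h
      have h2 : ∀ b : F, x ≠ b • z0 := fun b hb => by
        have := congrArg (fB m F x0) (ha.symm.trans hb)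
        rw [map_smul, map_smul, fB_self, hz0, smul_zero, smul_eq_mul, mul_one] at this
        exact hx (by rw [hb, ← this, zero_smul])
      exact (hμeq hz00 hx h2).symm.trans (hμeq hx0 hz00 hzx).symm
  have hμ0 : μ x0 ≠ 0 := fun h0 => by
    have hall : ∀ y, B' x0 y = 0 := fun y => by rw [hμ, h0, zero_mul]
    have hgx : (g : Matrix (Fin m ⊕ Fin m) (Fin m ⊕ Fin m) F) *ᵥ x0 = 0 := eq_zero_of_fB fun y => by
      have := hall (((g⁻¹ : GL (Fin m ⊕ Fin m) F) : Matrix (Fin m ⊕ Fin m) (Fin m ⊕ Fin m) F) *ᵥ y)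
      simp only [B', gsp_mulVec_inv] at this
      exact this
    have := congrArg (((g⁻¹ : GL (Fin m ⊕ Fin m) F) : Matrix (Fin m ⊕ Fin m) (Fin m ⊕ Fin m) F) *ᵥ ·) hgx
    simp only [gsp_inv_mulVec, Matrix.mulVec_zero] at this
    exact hx0 this
  have hgmem : g ∈ Cfsg.GSp m F := mem_GSp_iff.2 ⟨Units.mk0 _ hμ0, fun u v => by
    by_cases hu : u = 0
    · simp [hu]
    · exact (hμ u v).trans (by rw [hconst hu]; rfl)⟩
  let G : Cfsg.GSp m F := ⟨g, hgmem⟩
  -- the composite fixes every point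
  set γ := (conjA G * fieldA σ)⁻¹ * β with hγ
  have hfix : ∀ {v : Vm m F} {c : F}, v ≠ 0 → c ≠ 0 → ∃ d : F, γ (mkS (tvS v c)) = mkS (tvS v d) := by
    intro v c hv hc
    obtain ⟨e, d, he, h⟩ := hβ v c hv
    have hd : d ≠ 0 := fun h0 => by
      rw [h0, tvS_zero, map_one] at h
      exact mkS_tvS_ne_one p hm1 hv hc (β.injective (h.trans (map_one β).symm))
    obtain ⟨a, ha⟩ := hsame hv he hc hd h
    obtain ⟨b, hb, hb'⟩ := hS0 hv
    obtain ⟨c', hc'⟩ := mem_GSp_iff.1 hgmem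
    refine ⟨σ.symm ((a * b) ^ 2 * d * (c' : F)), ?_⟩
    rw [hγ, MulAut.mul_apply, h, MulAut.inv_apply, MulEquiv.symm_apply_eq, MulAut.mul_apply, fieldA_mkS, fieldSp_tvS,
      σ.apply_symm_apply, conjA_mkS]
    congr 1
    refine sp_ext_mulVec fun x => ?_
    rw [mat_conjSp, ← Matrix.mulVec_mulVec, ← Matrix.mulVec_mulVec, tvS_mulVec, tvS_mulVec, Matrix.mulVec_add,
      Matrix.mulVec_smul, gsp_mulVec_inv, ha, hb', smul_smul, map_smul, smul_eq_mul, smul_smul]
    congr 1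
    show _ = _ • S v
    congr 1
    have e1 := hc' (((g⁻¹ : GL (Fin m ⊕ Fin m) F) : Matrix (Fin m ⊕ Fin m) (Fin m ⊕ Fin m) F) *ᵥ x) (fun i => σ (v i))
    rw [gsp_mulVec_inv] at e1
    rw [map_smul, smul_eq_mul, show fB m F x (S v) = _ from e1]
    ring
  refine ⟨G, σ, ?_⟩
  suffices h1 : γ = 1 by
    rw [hγ, inv_mul_eq_one] at h1
    exact h1.symm
  refine autExt fun s => ?_
  obtain ⟨t, ht⟩ := mkS_surjective (γ (mkS s))
  rw [MulAut.one_apply, ← ht]
  have hpar : ∀ v : Vm m F, v ≠ 0 → ∃ a : F, mat t *ᵥ v = a • (mat s *ᵥ v) := by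
    intro v hv
    obtain ⟨d, hd⟩ := hfix hv (one_ne_zero (α := F))
    obtain ⟨d', hd'⟩ := hfix (mat_mulVec_ne_zero s hv) (one_ne_zero (α := F))
    rw [← conj_tvS, map_mul, map_mul, map_mul, map_mul, map_inv, map_inv, hd, ← ht, ← map_inv, ← map_mul,
      ← map_mul, conj_tvS] at hd'
    have hd0 : d ≠ 0 := fun h0 => by
      rw [h0, tvS_zero, map_one] at hd
      exact mkS_tvS_ne_one p hm1 hv one_ne_zero (γ.injective (hd.trans (map_one γ).symm))
    obtain ⟨a, ha⟩ := mkS_tvS_inj p hm1 (mat_mulVec_ne_zero t hv) hd0 hd'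
    have ha0 : a ≠ 0 := fun h0 => mat_mulVec_ne_zero s hv (by rw [ha, h0, zero_smul])
    exact ⟨a⁻¹, by rw [ha, smul_smul, inv_mul_cancel₀ ha0, one_smul]⟩
  -- every vector is an eigenvector of s⁻¹ t
  set r := s⁻¹ * t with hr
  have heig : ∀ v : Vm m F, ∃ a : F, mat r *ᵥ v = a • v := fun v => by
    by_cases hv : v = 0
    · exact ⟨0, by rw [hv, Matrix.mulVec_zero, smul_zero]⟩
    obtain ⟨a, ha⟩ := hpar v hv
    exact ⟨a, by rw [hr, mat_mul_mulVec, ha, Matrix.mulVec_smul, mat_inv_mulVec]⟩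
  obtain ⟨a, ha⟩ := LinearMap.exists_eq_smul_id_of_forall_notLinearIndependent
    (f := Matrix.mulVecLin (mat r)) fun v => by
      obtain ⟨a, ha⟩ := heig v
      intro hli
      have := (LinearIndependent.pair_iff.1 hli) (-a) 1 (by
        show (-a) • v + (1 : F) • (mat r *ᵥ v) = 0
        rw [ha, one_smul, neg_smul, neg_add_cancel])
      exact one_ne_zero this.2
  have hc : r ∈ Subgroup.center (Spm m F) := mem_center_of_scalar (a := a) fun v => LinearMap.congr_fun ha v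
  have := mkS_eq_one_iff.2 hc
  rw [hr, map_mul, map_inv, inv_mul_eq_one] at this
  exact this.symm

end Semilinear

end Cfsg.Agent.AutPSp
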