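import Cfsg.Agent.AutPSp.Graph
import Cfsg.Agent.AutPSL.Centralizers

/-!
The inner-diagonal group of PSp_2m, uniqueness of the semilinear form of an automorphism, the order of the
inner-diagonal group.
-/

set_option autoImplicit false

namespace Cfsg.Agent.AutPSp

open Matrix

variable {m : ℕ} {F : Type*} [Field F]

/-- The matrix of an invertible matrix. -/
abbrev gmat (g : GL (Fin m ⊕ Fin m) F) : Matrix (Fin m ⊕ Fin m) (Fin m ⊕ Fin m) F := g

theorem gl_ext_mulVec {g h : GL (Fin m ⊕ Fin m) F} (e : ∀ v : Vm m F, gmat g *ᵥ v = gmat h *ᵥ v) : g = h :=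
  Units.ext (Matrix.ext_of_mulVec_single fun _ => e _)

theorem gmat_mul_mulVec (g h : GL (Fin m ⊕ Fin m) F) (v : Vm m F) : gmat (g * h) *ᵥ v = gmat g *ᵥ (gmat h *ᵥ v) :=
  (Matrix.mulVec_mulVec v _ _).symm

theorem gmat_mulVec_ne_zero (g : GL (Fin m ⊕ Fin m) F) {v : Vm m F} (hv : v ≠ 0) : gmat g *ᵥ v ≠ 0 := fun h => by
  have := gsp_inv_mulVec g v
  rw [show (g : Matrix (Fin m ⊕ Fin m) (Fin m ⊕ Fin m) F) *ᵥ v = 0 from h, Matrix.mulVec_zero] at this
  exact hv this.symm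

/-- The base vector. -/
def a0 (hm : 1 ≤ m) (F : Type*) [Field F] : Vm m F := Pi.single (Sum.inl ⟨0, hm⟩) 1

theorem a0_ne_zero (hm : 1 ≤ m) : a0 hm F ≠ 0 := Pi.single_ne_zero_iff.2 one_ne_zero

theorem multiplier_unique (hm : 1 ≤ m) {g : GL (Fin m ⊕ Fin m) F} {c d : Fˣ}
    (hc : ∀ u v : Vm m F, fB m F (gmat g *ᵥ u) (gmat g *ᵥ v) = (c : F) * fB m F u v)
    (hd : ∀ u v : Vm m F, fB m F (gmat g *ᵥ u) (gmat g *ᵥ v) = (d : F) * fB m F u v) : c = d := by
  obtain ⟨w, hw⟩ := exists_fB_one (a0_ne_zero (F := F) hm)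
  refine Units.ext ?_
  have h := (hc (a0 hm F) w).symm.trans (hd _ _)
  rwa [hw, mul_one, mul_one] at h

/-- The multiplier. -/
noncomputable def mult (hm : 1 ≤ m) : Cfsg.GSp m F →* Fˣ where
  toFun g := Classical.choose (mem_GSp_iff.1 g.2)
  map_one' := multiplier_unique hm (g := 1) (Classical.choose_spec (mem_GSp_iff.1 (1 : Cfsg.GSp m F).2))
    fun u v => by simp [gmat]
  map_mul' g h := multiplier_unique hm (g := g.1 * h.1) (Classical.choose_spec (mem_GSp_iff.1 (g * h).2))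
    fun u v => by
      rw [gmat_mul_mulVec, gmat_mul_mulVec, Classical.choose_spec (mem_GSp_iff.1 g.2),
        Classical.choose_spec (mem_GSp_iff.1 h.2), Units.val_mul, mul_assoc]

theorem mult_spec (hm : 1 ≤ m) (g : Cfsg.GSp m F) (u v : Vm m F) :
    fB m F (gmat g.1 *ᵥ u) (gmat g.1 *ᵥ v) = (mult hm g : F) * fB m F u v :=
  Classical.choose_spec (mem_GSp_iff.1 g.2) u v

theorem mult_eq (hm : 1 ≤ m) {g : Cfsg.GSp m F} {c : Fˣ}
    (hc : ∀ u v : Vm m F, fB m F (gmat g.1 *ᵥ u) (gmat g.1 *ᵥ v) = (c : F) * fB m F u v) : mult hm g = c :=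
  multiplier_unique hm (mult_spec hm g) hc

theorem conjSp_tvS {g : Cfsg.GSp m F} {ν : Fˣ}
    (hν : ∀ u v : Vm m F, fB m F (gmat g.1 *ᵥ u) (gmat g.1 *ᵥ v) = (ν : F) * fB m F u v) (v : Vm m F) (c : F) :
    conjSp g (tvS v c) = tvS (gmat g.1 *ᵥ v) (c * ((ν⁻¹ : Fˣ) : F)) := by
  refine sp_ext_mulVec fun x => ?_
  rw [mat_conjSp, ← Matrix.mulVec_mulVec, ← Matrix.mulVec_mulVec, tvS_mulVec, tvS_mulVec, Matrix.mulVec_add,
    Matrix.mulVec_smul, gsp_mulVec_inv]
  congr 2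
  have h := hν (((g.1⁻¹ : GL (Fin m ⊕ Fin m) F) : Matrix (Fin m ⊕ Fin m) (Fin m ⊕ Fin m) F) *ᵥ x) v
  rw [show gmat g.1 *ᵥ _ = x from gsp_mulVec_inv g.1 x] at h
  show c * fB m F _ v = c * ((ν⁻¹ : Fˣ) : F) * fB m F x (gmat g.1 *ᵥ v)
  rw [h, mul_assoc, Units.inv_mul_cancel_left]

theorem fieldSp_conjSp_tvS {g : Cfsg.GSp m F} {ν : Fˣ} (σ : F ≃+* F)
    (hν : ∀ u v : Vm m F, fB m F (gmat g.1 *ᵥ u) (gmat g.1 *ᵥ v) = (ν : F) * fB m F u v) (v : Vm m F) (c : F) :
    conjSp g (fieldSp σ (tvS v c)) = tvS (gmat g.1 *ᵥ fun i => σ (v i)) (σ c * ((ν⁻¹ : Fˣ) : F)) := by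
  rw [fieldSp_tvS, conjSp_tvS hν]

/-- A semilinear map fixing all lines. -/
theorem semilinear_fix_lines {ι : Type*} [Fintype ι] [DecidableEq ι] [Nontrivial ι] {g : Matrix ι ι F} (hg : g.det ≠ 0)
    {σ : F ≃+* F} (h : ∀ v : ι → F, v ≠ 0 → ∃ a : F, g *ᵥ (fun i => σ (v i)) = a • v) :
    σ = 1 ∧ ∃ a : F, g = a • (1 : Matrix ι ι F) := by
  have hsingle : ∀ (i : ι) (t : F), (fun j => σ ((Pi.single i t : ι → F) j)) = Pi.single i (σ t) := fun i t =>
    funext fun j => by by_cases hj : j = i <;> simp [Pi.single_apply, hj]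
  have hcol : ∀ i, ∃ a : F, ∀ j, g j i = if j = i then a else 0 := fun i => by
    obtain ⟨a, ha⟩ := h (Pi.single i 1) (Pi.single_ne_zero_iff.2 one_ne_zero)
    rw [hsingle, map_one, Matrix.mulVec_single_one] at ha
    refine ⟨a, fun j => ?_⟩
    have := congrFun ha j
    simpa [Pi.single_apply] using this
  choose d hd using hcol
  have hd0 : ∀ i, d i ≠ 0 := fun i h0 => hg (Matrix.det_eq_zero_of_column_eq_zero i fun j => by
    rw [hd, h0]; simp)
  have key : ∀ (i k : ι) (s t : F), i ≠ k → (s ≠ 0) → d i * σ s * t = s * (d k * σ t) := fun i k s t hik hs => by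
    have hne : (Pi.single i s + Pi.single k t : ι → F) ≠ 0 := fun h0 => hs (by
      have := congrFun h0 i
      simpa [Pi.single_apply, hik] using this)
    obtain ⟨a, ha⟩ := h _ hne
    have e : (fun j => σ ((Pi.single i s + Pi.single k t : ι → F) j)) = Pi.single i (σ s) + Pi.single k (σ t) := by
      funext j
      rw [Pi.add_apply, map_add, Pi.add_apply]
      exact congr_arg₂ (· + ·) (congrFun (hsingle i s) j) (congrFun (hsingle k t) j)
    rw [e] at ha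
    have hi := congrFun ha i
    have hk := congrFun ha k
    simp [Matrix.mulVec_add, Pi.single_apply, hd, hik, hik.symm] at hi hk
    linear_combination t * hi - s * hk
  obtain ⟨i, k, hik⟩ := exists_pair_ne ι
  have hall : ∀ j l : ι, j ≠ l → d j = d l := fun j l hjl => by
    have := key j l 1 1 hjl one_ne_zero
    simpa using this
  refine ⟨RingEquiv.ext fun t => ?_, d i, Matrix.ext fun j l => ?_⟩
  · have := key i k 1 t hik one_ne_zero
    rw [map_one, mul_one, one_mul, ← hall i k hik] at this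
    exact (mul_left_cancel₀ (hd0 i) this).symm
  · rw [hd, Matrix.smul_apply, Matrix.one_apply, smul_eq_mul]
    by_cases hjl : j = l
    · subst hjl
      rw [if_pos rfl, if_pos rfl, mul_one]
      by_cases hji : j = i
      · rw [hji]
      · exact hall j i hji
    · rw [if_neg hjl, if_neg hjl, mul_zero]

theorem nontrivial_index (hm : 1 ≤ m) : Nontrivial (Fin m ⊕ Fin m) :=
  ⟨⟨Sum.inl ⟨0, hm⟩, Sum.inr ⟨0, hm⟩, Sum.inl_ne_inr⟩⟩

theorem mem_scalars_of_smul {g : GL (Fin m ⊕ Fin m) F} {a : F} (ha : gmat g = a • 1) (hm : 1 ≤ m) :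
    g ∈ Geo.scalars (Fin m ⊕ Fin m) F := by
  haveI := nontrivial_index hm
  have ha0 : a ≠ 0 := fun h0 => by
    refine Matrix.GeneralLinearGroup.det_ne_zero g ?_
    show (gmat g).det = 0
    rw [ha, h0, zero_smul, Matrix.det_zero]
  rw [Geo.mem_scalars_iff]
  exact ⟨Units.mk0 a ha0, ha⟩

theorem conjA_of_scalar {g : Cfsg.GSp m F} (hg : g.1 ∈ Geo.scalars (Fin m ⊕ Fin m) F) : conjA g = 1 := by
  obtain ⟨c, hc⟩ := (Geo.mem_scalars_iff _).1 hg
  refine autExt fun s => ?_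
  rw [conjA_mkS, MulAut.one_apply]
  congr 1
  refine sp_ext ?_
  rw [mat_conjSp]
  conv_lhs => arg 1; rw [hc, Matrix.smul_mul, Matrix.one_mul]
  rw [show (c : F) • mat s = mat s * (g.1 : Matrix (Fin m ⊕ Fin m) (Fin m ⊕ Fin m) F) by
    rw [hc, Matrix.mul_smul, Matrix.mul_one], Matrix.mul_assoc, Units.mul_inv, Matrix.mul_one]

section CharP

variable (p : ℕ) [Fact p.Prime] [CharP F p]
include p

/-- Uniqueness of the semilinear form. -/
theorem eq_one_of_conj_field (hm : 1 ≤ m) {g : Cfsg.GSp m F} {σ : F ≃+* F}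
    (h : conjA g * fieldA σ = (1 : MulAut (Cfsg.PSp m F))) :
    σ = 1 ∧ g.1 ∈ Geo.scalars (Fin m ⊕ Fin m) F := by
  haveI := nontrivial_index hm
  obtain ⟨hσ, a, ha⟩ := semilinear_fix_lines (Matrix.GeneralLinearGroup.det_ne_zero g.1) (σ := σ) fun v hv => by
    have e := MulEquiv.congr_fun h (mkS (tvS v 1))
    rw [MulAut.mul_apply, fieldA_mkS, conjA_mkS, MulAut.one_apply, fieldSp_conjSp_tvS σ (mult_spec hm g)] at e
    exact tvS_inj hv one_ne_zero (eq_of_mkS_eq p hm (tvS_pow_p p _ _) (tvS_pow_p p _ _) e).symm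
  exact ⟨hσ, mem_scalars_of_smul ha hm⟩

theorem conjA_eq_one_iff (hm : 1 ≤ m) {g : Cfsg.GSp m F} :
    conjA g = (1 : MulAut (Cfsg.PSp m F)) ↔ g.1 ∈ Geo.scalars (Fin m ⊕ Fin m) F :=
  ⟨fun h => (eq_one_of_conj_field p hm (σ := 1) (by rw [map_one, mul_one, h])).2, conjA_of_scalar⟩

theorem ker_conjA (hm : 1 ≤ m) :
    (conjA (m := m) (F := F)).ker = (Geo.scalars (Fin m ⊕ Fin m) F).subgroupOf (Cfsg.GSp m F) :=
  Subgroup.ext fun g => by rw [MonoidHom.mem_ker, conjA_eq_one_iff p hm, Subgroup.mem_subgroupOf]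

theorem fieldA_mem_inndiag_iff (hm : 1 ≤ m) {σ : F ≃+* F} : fieldA σ ∈ Cfsg.inndiagPSp m F ↔ σ = 1 := by
  refine ⟨fun h => ?_, fun h => by rw [h, map_one]; exact one_mem _⟩
  rw [inndiagPSp_eq] at h
  obtain ⟨g, hg⟩ := h
  exact (eq_one_of_conj_field p hm (g := g⁻¹) (σ := σ) (by rw [map_inv, hg, inv_mul_cancel])).1

theorem fieldA_injective (hm : 1 ≤ m) : Function.Injective (fieldA (m := m) (F := F)) :=
  (injective_iff_map_eq_one _).2 fun σ h =>
    (eq_one_of_conj_field p hm (g := 1) (σ := σ) (by rw [map_one, one_mul, h])).1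

theorem conj_injective (hm : 1 ≤ m) : Function.Injective (MulAut.conj : Cfsg.PSp m F →* MulAut (Cfsg.PSp m F)) :=
  (injective_iff_map_eq_one _).2 fun x hx => by
    obtain ⟨s, rfl⟩ := mkS_surjective x
    rw [← conjA_spToGSp, conjA_eq_one_iff p hm] at hx
    obtain ⟨c, hc⟩ := (Geo.mem_scalars_iff _).1 hx
    exact mkS_eq_one_iff.2 (mem_center_of_scalar (a := (c : F)) fun v => by
      rw [show mat s = (c : F) • 1 from hc, Matrix.smul_mulVec, Matrix.one_mulVec])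

end CharP

theorem range_spToGSp (hm : 1 ≤ m) : (spToGSp (m := m) (F := F)).range = (mult hm).ker := by
  ext g
  constructor
  · rintro ⟨s, rfl⟩
    exact mult_eq hm fun u v => by rw [Units.val_one, one_mul]; exact fB_mat s u v
  · intro hg
    have h := mult_spec hm g
    rw [MonoidHom.mem_ker.1 hg] at h
    exact ⟨⟨gmat g.1, (Classical.mem_symplectic_iff _).2 fun u v => (h u v).trans (by rw [Units.val_one, one_mul])⟩,
      Subtype.ext (Units.ext rfl)⟩

theorem inn_eq : Cfsg.Inn (Cfsg.PSp m F) = (spToGSp (m := m) (F := F)).range.map conjA := by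
  ext x
  constructor
  · rintro ⟨y, rfl⟩
    obtain ⟨s, rfl⟩ := mkS_surjective y
    exact ⟨_, ⟨s, rfl⟩, conjA_spToGSp s⟩
  · rintro ⟨_, ⟨s, rfl⟩, rfl⟩
    exact ⟨mkS s, (conjA_spToGSp s).symm⟩

theorem inn_le_inndiag : Cfsg.Inn (Cfsg.PSp m F) ≤ Cfsg.inndiagPSp m F := by
  rw [inn_eq]
  rintro _ ⟨g, -, rfl⟩
  exact conjA_mem g

theorem mult_surjective (hm : 1 ≤ m) : Function.Surjective (mult (F := F) hm) := fun c => by
  let d : Fin m ⊕ Fin m → Fˣ := Sum.elim (fun _ => c) (fun _ => 1)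
  let g : GL (Fin m ⊕ Fin m) F := Classical.diagGL d
  have hg : ∀ v : Vm m F, gmat g *ᵥ v = fun i => (d i : F) * v i := fun v => by
    funext i
    show ((g : Matrix (Fin m ⊕ Fin m) (Fin m ⊕ Fin m) F) *ᵥ v) i = _
    rw [Classical.diagGL_coe, Matrix.mulVec_diagonal]
  have h : ∀ u v : Vm m F, fB m F (gmat g *ᵥ u) (gmat g *ᵥ v) = (c : F) * fB m F u v := fun u v => by
    rw [hg, hg, fB, Classical.sympB_eq_sum, Classical.sympB_eq_sum, Finset.mul_sum]
    refine Finset.sum_congr rfl fun i _ => ?_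
    simp only [d, Sum.elim_inl, Sum.elim_inr, Units.val_one]
    ring
  exact ⟨⟨g, mem_GSp_iff.2 ⟨c, h⟩⟩, mult_eq hm h⟩

/-- The scalar conformal matrices. -/
def scalarGSp : Fˣ →* Cfsg.GSp m F where
  toFun a := ⟨Units.map (Matrix.scalar (Fin m ⊕ Fin m) : F →+* Matrix (Fin m ⊕ Fin m) (Fin m ⊕ Fin m) F).toMonoidHom a,
    mem_GSp_iff.2 ⟨a ^ 2, fun u v => by
      show fB m F (Matrix.scalar (Fin m ⊕ Fin m) (a : F) *ᵥ u) (Matrix.scalar (Fin m ⊕ Fin m) (a : F) *ᵥ v) = _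
      rw [Matrix.scalar_apply, ← Matrix.smul_one_eq_diagonal, Matrix.smul_mulVec, Matrix.smul_mulVec, Matrix.one_mulVec,
        Matrix.one_mulVec, map_smul, map_smul, LinearMap.smul_apply, smul_eq_mul, smul_eq_mul, Units.val_pow_eq_pow_val]
      ring⟩⟩
  map_one' := Subtype.ext (map_one _)
  map_mul' a b := Subtype.ext (map_mul _ a b)

theorem gmat_scalarGSp (a : Fˣ) : gmat (scalarGSp (m := m) a).1 = (a : F) • 1 := by
  show Matrix.scalar (Fin m ⊕ Fin m) (a : F) = _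
  rw [Matrix.scalar_apply, Matrix.smul_one_eq_diagonal]

theorem mult_scalarGSp (hm : 1 ≤ m) (a : Fˣ) : mult hm (scalarGSp a) = a ^ 2 := mult_eq hm fun u v => by
  rw [gmat_scalarGSp, Matrix.smul_mulVec, Matrix.smul_mulVec, Matrix.one_mulVec,
    Matrix.one_mulVec, map_smul, map_smul, LinearMap.smul_apply, smul_eq_mul, smul_eq_mul, Units.val_pow_eq_pow_val]
  ring

theorem scalars_subgroupOf :
    (Geo.scalars (Fin m ⊕ Fin m) F).subgroupOf (Cfsg.GSp m F) = (scalarGSp (m := m) (F := F)).range := by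
  ext g
  constructor
  · rintro ⟨a, ha⟩
    exact ⟨a, Subtype.ext ha⟩
  · rintro ⟨a, rfl⟩
    exact ⟨a, rfl⟩

section Count

variable [Finite F] (p : ℕ) [Fact p.Prime] [CharP F p]
include p

/-- The relative index of the inner automorphisms joined with a group of conformal matrices. -/
theorem relIndex_eq (hm : 1 ≤ m) (S : Subgroup (Cfsg.GSp m F)) :
    (Cfsg.Inn (Cfsg.PSp m F) ⊔ S.map conjA).relIndex (Cfsg.inndiagPSp m F) =
      ((powMonoidHom 2 : Fˣ →* Fˣ).range ⊔ S.map (mult hm)).index := by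
  rw [inn_eq, inndiagPSp_eq, ← Subgroup.index_comap, ← Subgroup.map_sup, Subgroup.comap_map_eq, ker_conjA p hm,
    scalars_subgroupOf, ← Subgroup.index_map_eq (f := mult (F := F) hm) _ (mult_surjective hm)
      (le_sup_of_le_left (le_sup_of_le_left (le_of_eq (range_spToGSp hm).symm)))]
  congr 1
  rw [Subgroup.map_sup, Subgroup.map_sup, range_spToGSp hm, (Subgroup.map_eq_bot_iff _).2 le_rfl, bot_sup_eq,
    MonoidHom.map_range, sup_comm]
  congr 2
  ext a
  simp [mult_scalarGSp]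

theorem relIndex_inn (hm : 1 ≤ m) :
    (Cfsg.Inn (Cfsg.PSp m F)).relIndex (Cfsg.inndiagPSp m F) = Nat.gcd 2 (Nat.card F - 1) := by
  have h := relIndex_eq p hm (⊥ : Subgroup (Cfsg.GSp m F))
  rw [Subgroup.map_bot, sup_bot_eq, Subgroup.map_bot, sup_bot_eq] at h
  rw [h, IsCyclic.index_powMonoidHom_range, Nat.card_units, Nat.gcd_comm]

theorem card_inndiag (hm : 1 ≤ m) :
    Nat.card (Cfsg.inndiagPSp m F) = Nat.gcd 2 (Nat.card F - 1) * Nat.card (Cfsg.PSp m F) := by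
  have h1 := ((Cfsg.Inn (Cfsg.PSp m F)).subgroupOf (Cfsg.inndiagPSp m F)).index_mul_card
  rw [← h1, Nat.card_congr (Subgroup.subgroupOfEquivOfLe inn_le_inndiag).toEquiv,
    show ((Cfsg.Inn (Cfsg.PSp m F)).subgroupOf (Cfsg.inndiagPSp m F)).index =
      (Cfsg.Inn (Cfsg.PSp m F)).relIndex (Cfsg.inndiagPSp m F) from rfl, relIndex_inn p hm,
    ← Nat.card_congr (MonoidHom.ofInjective (conj_injective p hm)).toEquiv]

theorem inndiag_eq_inn (hm : 1 ≤ m) (hp : p = 2) : Cfsg.inndiagPSp m F = Cfsg.Inn (Cfsg.PSp m F) := by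
  refine le_antisymm ?_ inn_le_inndiag
  rw [← Subgroup.relIndex_eq_one, relIndex_inn p hm]
  subst hp
  haveI := Fintype.ofFinite F
  obtain ⟨n, -, hc⟩ := FiniteField.card F 2
  rw [Nat.card_eq_fintype_card, hc]
  have : 2 ∣ 2 ^ (n : ℕ) := dvd_pow_self 2 n.ne_zero
  have hpos : 1 ≤ 2 ^ (n : ℕ) := Nat.one_le_two_pow
  refine Nat.coprime_two_left.2 ?_
  rw [Nat.odd_iff]
  omega

theorem inndiag_iso (hm : 1 ≤ m) :
    Nonempty (Cfsg.PGSp m F ≃* Cfsg.inndiagPSp m F) :=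
  ⟨((QuotientGroup.quotientMulEquivOfEq (ker_conjA p hm).symm).trans
    (QuotientGroup.quotientKerEquivRange conjA)).trans (MulEquiv.subgroupCongr inndiagPSp_eq.symm)⟩

end Count

end Cfsg.Agent.AutPSp
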